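import Mathlib.RingTheory.Flat.EquationalCriterion
import Mathlib.RingTheory.Artinian.Ring
import Mathlib.RingTheory.HopkinsLevitzki
import Mathlib.RingTheory.LocalRing.MaximalIdeal.Basic
import Mathlib.RingTheory.Ideal.Colon

/-!
# Injective endomorphisms of flat modules over Artinian local rings

`A` Artinian local, `M` a flat `A`-module, `f : M → M` linear.  The condition
`Inj f J : ∀ x, f x ∈ J M → x ∈ J M` holds for all ideals `J` as soon as it holds for one proper ideal
(in particular `J = 0`: `f` injective), and then `M / f M` is flat.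
-/

set_option autoImplicit false

namespace K82.ArtinFlat

open IsLocalRing

universe u v

variable {A : Type u} [CommRing A] {M : Type v} [AddCommGroup M] [Module A M]

theorem exists_of_mem_smul_top {J : Ideal A} {x : M} (hx : x ∈ J • (⊤ : Submodule A M)) :
    ∃ (n : ℕ) (a : Fin n → A) (y : Fin n → M), (∀ i, a i ∈ J) ∧ x = ∑ i, a i • y i := by
  refine Submodule.smul_induction_on hx (fun a ha y _ => ?_) (fun x y hx hy => ?_)
  · exact ⟨1, fun _ => a, fun _ => y, fun _ => ha, by simp⟩
  · obtain ⟨n, a, y, ha, rfl⟩ := hx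
    obtain ⟨m, b, z, hb, rfl⟩ := hy
    refine ⟨n + m, Fin.append a b, Fin.append y z, fun i => ?_, ?_⟩
    · refine Fin.addCases (fun i => ?_) (fun i => ?_) i
      · rw [Fin.append_left]; exact ha i
      · rw [Fin.append_right]; exact hb i
    · rw [Fin.sum_univ_add]
      simp

theorem sum_mem_smul_top {J : Ideal A} {n : ℕ} {a : Fin n → A} (y : Fin n → M)
    (ha : ∀ i, a i ∈ J) : ∑ i, a i • y i ∈ J • (⊤ : Submodule A M) :=
  sum_mem fun i _ => Submodule.smul_mem_smul (ha i) trivial

/-- flatness and colon ideals: `a x ∈ J M` implies `x ∈ (J : a) M` -/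
theorem mem_colon_smul_top [Module.Flat A M] {J : Ideal A} {a : A} {x : M}
    (h : a • x ∈ J • (⊤ : Submodule A M)) :
    x ∈ (Submodule.colon J {a} : Ideal A) • (⊤ : Submodule A M) := by
  obtain ⟨n, j, y, hj, hxy⟩ := exists_of_mem_smul_top h
  have h0 : ∑ i, (Fin.cons a j : Fin (n + 1) → A) i • (Fin.cons x (fun i => - y i) : Fin (n + 1) → M) i = 0 := by
    rw [Fin.sum_univ_succ]
    simp [hxy]
  obtain ⟨k, α, z, h1, h2⟩ := Module.Flat.isTrivialRelation_of_sum_smul_eq_zero h0
  have hx := h1 0
  rw [Fin.cons_zero] at hx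
  rw [hx]
  refine sum_mem_smul_top z fun i => ?_
  rw [Submodule.mem_colon_singleton, smul_eq_mul, mul_comm]
  have h3 := h2 i
  rw [Fin.sum_univ_succ, Fin.cons_zero] at h3
  have h4 : a * α 0 i = - ∑ x : Fin n, j x * α x.succ i := by
    rw [eq_neg_iff_add_eq_zero, ← h3]
    simp
  rw [h4]
  exact J.neg_mem (sum_mem fun i _ => J.mul_mem_right _ (hj i))

variable [IsArtinianRing A] [IsLocalRing A]

/-- the socle of `A / J` is nonzero for `J` proper -/
theorem exists_socle {J : Ideal A} (hJ : J ≠ ⊤) :
    ∃ a : A, a ∉ J ∧ (Submodule.colon J {a} : Ideal A) = maximalIdeal A := by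
  obtain ⟨N, hN⟩ := IsArtinianRing.isNilpotent_jacobson_bot (R := A)
  rw [IsLocalRing.jacobson_eq_maximalIdeal ⊥ bot_ne_top] at hN
  have hex : ∃ n, maximalIdeal A ^ n ≤ J := ⟨N, by rw [hN]; exact bot_le⟩
  classical
  let n := Nat.find hex
  have hn : maximalIdeal A ^ n ≤ J := Nat.find_spec hex
  have hn0 : n ≠ 0 := by
    intro h
    rw [h, pow_zero, Ideal.one_eq_top, top_le_iff] at hn
    exact hJ hn
  obtain ⟨k, hk⟩ := Nat.exists_eq_succ_of_ne_zero hn0
  have hk' : ¬ maximalIdeal A ^ k ≤ J := Nat.find_min hex (by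
    change k < n; omega)
  obtain ⟨a, ha, haJ⟩ := SetLike.not_le_iff_exists.mp hk'
  refine ⟨a, haJ, ?_⟩
  have hle : maximalIdeal A ≤ (Submodule.colon J {a} : Ideal A) := by
    intro r hr
    rw [Submodule.mem_colon_singleton, smul_eq_mul]
    apply hn
    rw [hk, pow_succ']
    exact Ideal.mul_mem_mul hr ha
  have hne : (Submodule.colon J {a} : Ideal A) ≠ ⊤ := by
    intro h
    have : (1 : A) ∈ (Submodule.colon J {a} : Ideal A) := by rw [h]; trivial
    rw [Submodule.mem_colon_singleton, one_smul] at this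
    exact haJ this
  exact le_antisymm (IsLocalRing.le_maximalIdeal hne) hle

omit [IsArtinianRing A] [IsLocalRing A] in
theorem map_mem_smul_top (f : M →ₗ[A] M) {J : Ideal A} {x : M} (hx : x ∈ J • (⊤ : Submodule A M)) :
    f x ∈ J • (⊤ : Submodule A M) := by
  have h := Submodule.mem_map_of_mem (f := f) hx
  rw [Submodule.map_smul''] at h
  exact Submodule.smul_mono le_rfl le_top h

/-- `f` is injective modulo `J` -/
def Inj (f : M →ₗ[A] M) (J : Ideal A) : Prop :=
  ∀ x, f x ∈ J • (⊤ : Submodule A M) → x ∈ J • (⊤ : Submodule A M)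

omit [IsArtinianRing A] [IsLocalRing A] in
theorem inj_bot_iff (f : M →ₗ[A] M) : Inj f ⊥ ↔ Function.Injective f := by
  unfold Inj
  simp only [Submodule.bot_smul, Submodule.mem_bot]
  exact (injective_iff_map_eq_zero f).symm

omit [IsArtinianRing A] [IsLocalRing A] in
theorem smul_mem_of_colon {J : Ideal A} {a : A} {x : M}
    (h : x ∈ (Submodule.colon J {a} : Ideal A) • (⊤ : Submodule A M)) :
    a • x ∈ J • (⊤ : Submodule A M) := by
  refine Submodule.smul_induction_on h (fun r hr y _ => ?_) (fun x y hx hy => ?_)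
  · rw [Submodule.mem_colon_singleton, smul_eq_mul] at hr
    rw [← mul_smul, mul_comm]
    exact Submodule.smul_mem_smul hr trivial
  · rw [smul_add]; exact add_mem hx hy

theorem Inj.maximalIdeal [Module.Flat A M] {f : M →ₗ[A] M} {J : Ideal A} (hJ : J ≠ ⊤)
    (h : Inj f J) : Inj f (maximalIdeal A) := by
  obtain ⟨a, ha, hcol⟩ := exists_socle hJ
  intro x hx
  rw [← hcol] at hx ⊢
  apply mem_colon_smul_top
  apply h
  rw [map_smul]
  exact smul_mem_of_colon hx

theorem Inj.all [Module.Flat A M] {f : M →ₗ[A] M} (h : Inj f (IsLocalRing.maximalIdeal A))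
    (J : Ideal A) : Inj f J := by
  have hwf : WellFoundedGT (Ideal A) := inferInstanceAs (WellFoundedGT (Submodule A A))
  induction J using WellFoundedGT.induction with
  | ind J ih =>
    by_cases hJ : J = ⊤
    · subst hJ
      intro x _
      rw [Submodule.top_smul]; trivial
    · obtain ⟨a, ha, hcol⟩ := exists_socle hJ
      have hlt : J < J ⊔ Ideal.span {a} := by
        refine lt_of_le_of_ne le_sup_left fun he => ha ?_
        rw [he]
        exact Ideal.mem_sup_right (Ideal.mem_span_singleton_self a)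
      have hih := ih _ hlt
      intro x hx
      have hx' := hih x (Submodule.smul_mono_left le_sup_left hx)
      rw [Submodule.sup_smul, Submodule.mem_sup] at hx'
      obtain ⟨j, hj, z, hz, rfl⟩ := hx'
      rw [Submodule.ideal_span_singleton_smul] at hz
      obtain ⟨c, -, rfl⟩ := hz
      refine add_mem hj ?_
      have hfj := map_mem_smul_top f hj
      rw [map_add] at hx
      have h1 : f (a • c) ∈ J • (⊤ : Submodule A M) := by
        have := sub_mem hx hfj
        rwa [add_sub_cancel_left] at this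
      rw [map_smul] at h1
      have h2 := mem_colon_smul_top h1
      rw [hcol] at h2
      have h3 := h c h2
      rw [← hcol] at h3
      exact smul_mem_of_colon h3

theorem Inj.injective [Module.Flat A M] {f : M →ₗ[A] M} {J : Ideal A} (hJ : J ≠ ⊤)
    (h : Inj f J) : Function.Injective f :=
  (inj_bot_iff f).mp ((h.maximalIdeal hJ).all ⊥)

theorem inj_of_injective [Module.Flat A M] {f : M →ₗ[A] M} (hf : Function.Injective f)
    (J : Ideal A) : Inj f J :=
  (((inj_bot_iff f).mpr hf).maximalIdeal bot_ne_top).all J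

theorem flat_quotient_range [Module.Flat A M] {f : M →ₗ[A] M} (hf : Function.Injective f) :
    Module.Flat A (M ⧸ LinearMap.range f) := by
  apply Module.Flat.of_forall_isTrivialRelation
  intro l a x hx
  choose y hy using fun i => Submodule.mkQ_surjective (LinearMap.range f) (x i)
  obtain ⟨b, hb⟩ : ∃ b, f b = ∑ i, a i • y i := by
    have : (LinearMap.range f).mkQ (∑ i, a i • y i) = 0 := by
      rw [map_sum, ← hx]
      exact Finset.sum_congr rfl fun i _ => by rw [map_smul, hy]
    rwa [Submodule.mkQ_apply, Submodule.Quotient.mk_eq_zero] at this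
  have hJ : f b ∈ (Ideal.span (Set.range a)) • (⊤ : Submodule A M) := by
    rw [hb]
    exact sum_mem_smul_top y fun i => Ideal.subset_span ⟨i, rfl⟩
  have hbJ := inj_of_injective hf _ b hJ
  obtain ⟨c, hc⟩ : ∃ c : Fin l → M, b = ∑ i, a i • c i := by
    rw [Submodule.span_smul_eq, ← Submodule.span_smul_eq] at hbJ
    refine Submodule.smul_induction_on hbJ (fun r hr m _ => ?_) (fun x y hx hy => ?_)
    · obtain ⟨s, hs⟩ := (Ideal.mem_span_range_iff_exists_fun).mp hr
      refine ⟨fun i => s i • m, ?_⟩
      rw [← hs, Finset.sum_smul]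
      exact Finset.sum_congr rfl fun i _ => by rw [mul_smul, smul_comm]
    · obtain ⟨s, rfl⟩ := hx
      obtain ⟨t, rfl⟩ := hy
      exact ⟨fun i => s i + t i, by simp only [smul_add, Finset.sum_add_distrib]⟩
  have h0 : ∑ i, a i • (y i - f (c i)) = 0 := by
    simp only [smul_sub, Finset.sum_sub_distrib]
    rw [← hb, hc, map_sum]
    simp only [map_smul]
    exact sub_self _
  obtain ⟨k, α, z, h1, h2⟩ := Module.Flat.isTrivialRelation_of_sum_smul_eq_zero h0
  refine ⟨k, α, fun j => (LinearMap.range f).mkQ (z j), fun i => ?_, h2⟩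
  have h3 := congrArg (LinearMap.range f).mkQ (h1 i)
  rw [map_sub, map_sum, hy] at h3
  have h4 : (LinearMap.range f).mkQ (f (c i)) = 0 := by
    rw [Submodule.mkQ_apply, Submodule.Quotient.mk_eq_zero]
    exact ⟨_, rfl⟩
  rw [h4, sub_zero] at h3
  rw [h3]
  exact Finset.sum_congr rfl fun j _ => map_smul _ _ _

end K82.ArtinFlat
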