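import Groth.Agent.CAlg.K82.ArtinFlat
import Mathlib.RingTheory.Regular.RegularSequence
import Mathlib.RingTheory.Flat.Stability
import Mathlib.RingTheory.Ideal.Quotient.Operations

/-!
# Regular sequences in flat algebras over Artinian local rings

Elementwise description `RegMod` of weakly regular sequences (following `Flat2G/SliceSeq`), and the
comparison of `RegMod K hs` with `RegMod (K ⊔ J B) hs` for `B / K` flat over the Artinian local ring `A`.
-/

set_option autoImplicit false

namespace K82.ArtinReg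

open IsLocalRing RingTheory.Sequence Pointwise K82.ArtinFlat

universe u v

section Defs

variable {B : Type v} [CommRing B]

/-- `hs` is a weakly regular sequence modulo `I` -/
def RegMod : Ideal B → List B → Prop
  | _, [] => True
  | I, h :: t => (∀ b, h * b ∈ I → b ∈ I) ∧ RegMod (I ⊔ Ideal.span {h}) t

theorem isWeaklyRegular_iff_regMod (hs : List B) (I : Ideal B) :
    IsWeaklyRegular (B ⧸ I) hs ↔ RegMod I hs := by
  induction hs generalizing I with
  | nil => simp [RegMod]
  | cons h t ih =>
    rw [isWeaklyRegular_cons_iff, RegMod, ← ih]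
    refine and_congr ?_ ?_
    · constructor
      · intro H b hb
        have : h • (Ideal.Quotient.mk I b) = h • (0 : B ⧸ I) := by
          rw [smul_zero, Algebra.smul_def, Ideal.Quotient.algebraMap_eq, ← map_mul]
          exact Ideal.Quotient.eq_zero_iff_mem.mpr hb
        exact Ideal.Quotient.eq_zero_iff_mem.mp (H this)
      · intro H x y hxy
        obtain ⟨x, rfl⟩ := Ideal.Quotient.mk_surjective x
        obtain ⟨y, rfl⟩ := Ideal.Quotient.mk_surjective y
        change h • _ = h • _ at hxy
        rw [Algebra.smul_def, Algebra.smul_def, Ideal.Quotient.algebraMap_eq, ← map_mul, ← map_mul,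
          Ideal.Quotient.eq, ← mul_sub] at hxy
        exact Ideal.Quotient.eq.mpr (H _ hxy)
    · have e : QuotSMulTop h (B ⧸ I) ≃ₗ[B] (B ⧸ (I ⊔ Ideal.span {h})) := by
        have hmem : (h • (⊤ : Submodule B (B ⧸ I))) =
            Submodule.map (Submodule.mkQ I) (I ⊔ Ideal.span {h} : Submodule B B) := by
          ext x
          obtain ⟨x, rfl⟩ := Ideal.Quotient.mk_surjective x
          constructor
          · intro hx
            obtain ⟨y, -, hy⟩ := (Submodule.mem_smul_pointwise_iff_exists _ _ _).mp hx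
            obtain ⟨y, rfl⟩ := Ideal.Quotient.mk_surjective y
            refine ⟨h * y, ?_, ?_⟩
            · exact Ideal.mem_sup_right (Ideal.mul_mem_right _ _ (Ideal.mem_span_singleton_self h))
            · rw [← hy, Algebra.smul_def, Ideal.Quotient.algebraMap_eq, ← map_mul]
              rfl
          · rintro ⟨y, hy, hyx⟩
            obtain ⟨a, ha, b, hb, rfl⟩ := Submodule.mem_sup.mp hy
            obtain ⟨c, rfl⟩ := Ideal.mem_span_singleton'.mp hb
            refine (Submodule.mem_smul_pointwise_iff_exists _ _ _).mpr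
              ⟨Ideal.Quotient.mk I c, trivial, ?_⟩
            rw [Algebra.smul_def, Ideal.Quotient.algebraMap_eq, ← map_mul, ← hyx]
            refine (Submodule.Quotient.eq _).mpr ?_
            have : h * c - (a + c * h) = -a := by ring
            rw [this]
            exact I.neg_mem ha
        exact (Submodule.quotEquivOfEq _ _ hmem).trans
          (Submodule.quotientQuotientEquivQuotient I (I ⊔ Ideal.span {h}) le_sup_left)
      exact LinearEquiv.isWeaklyRegular_congr e t

theorem isWeaklyRegular_iff_regMod_bot (hs : List B) :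
    IsWeaklyRegular B hs ↔ RegMod ⊥ hs := by
  rw [← isWeaklyRegular_iff_regMod]
  exact LinearEquiv.isWeaklyRegular_congr (Submodule.quotEquivOfEqBot (⊥ : Submodule B B) rfl).symm hs

theorem isWeaklyRegular_map_mk_iff (hs : List B) (I : Ideal B) :
    IsWeaklyRegular (B ⧸ I) (hs.map (Ideal.Quotient.mk I)) ↔ RegMod I hs := by
  rw [← isWeaklyRegular_iff_regMod]
  exact isWeaklyRegular_map_algebraMap_iff (B ⧸ I) (B ⧸ I) hs

theorem regMod_comap_iff {C : Type*} [CommRing C] (φ : B →+* C) (hφ : Function.Surjective φ)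
    (hs : List B) (I : Ideal C) : RegMod (I.comap φ) hs ↔ RegMod I (hs.map φ) := by
  induction hs generalizing I with
  | nil => simp [RegMod]
  | cons h t ih =>
    rw [List.map_cons, RegMod, RegMod]
    have h1 : I.comap φ ⊔ Ideal.span {h} = (I ⊔ Ideal.span {φ h}).comap φ := by
      apply le_antisymm
      · refine sup_le (Ideal.comap_mono le_sup_left) ?_
        rw [Ideal.span_le, Set.singleton_subset_iff]
        exact Ideal.mem_comap.mpr (Ideal.mem_sup_right (Ideal.mem_span_singleton_self _))
      · intro b hb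
        rw [Ideal.mem_comap] at hb
        obtain ⟨a, ha, c, hc, hac⟩ := Submodule.mem_sup.mp hb
        obtain ⟨d, rfl⟩ := Ideal.mem_span_singleton'.mp hc
        obtain ⟨d, rfl⟩ := hφ d
        have : b = (b - d * h) + d * h := by ring
        rw [this]
        refine Ideal.add_mem _ (Ideal.mem_sup_left ?_)
          (Ideal.mem_sup_right (Ideal.mul_mem_left _ _ (Ideal.mem_span_singleton_self h)))
        rw [Ideal.mem_comap, map_sub, map_mul, ← hac, add_sub_cancel_right]
        exact ha
    rw [h1, ih]
    refine and_congr_left fun _ => ?_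
    constructor
    · intro H c hc
      obtain ⟨b, rfl⟩ := hφ c
      rw [← map_mul] at hc
      exact H b hc
    · intro H b hb
      rw [Ideal.mem_comap, map_mul] at hb
      exact H _ hb

end Defs

variable {A : Type u} [CommRing A] {B : Type v} [CommRing B] [Algebra A B]

/-- multiplication by `h` on `B / K` as an `A`-linear map -/
noncomputable def mulQ (A : Type u) [CommRing A] [Algebra A B] (K : Ideal B) (h : B) :
    (B ⧸ K) →ₗ[A] (B ⧸ K) :=
  LinearMap.mulLeft A (Ideal.Quotient.mk K h)

theorem mulQ_injective_iff (K : Ideal B) (h : B) :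
    Function.Injective (mulQ A K h) ↔ ∀ b, h * b ∈ K → b ∈ K := by
  rw [injective_iff_map_eq_zero]
  constructor
  · intro H b hb
    apply Ideal.Quotient.eq_zero_iff_mem.mp
    apply H
    change Ideal.Quotient.mk K h * Ideal.Quotient.mk K b = 0
    rw [← map_mul]
    exact Ideal.Quotient.eq_zero_iff_mem.mpr hb
  · intro H x hx
    obtain ⟨b, rfl⟩ := Ideal.Quotient.mk_surjective x
    apply Ideal.Quotient.eq_zero_iff_mem.mpr
    apply H
    change Ideal.Quotient.mk K h * Ideal.Quotient.mk K b = 0 at hx
    rw [← map_mul] at hx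
    exact Ideal.Quotient.eq_zero_iff_mem.mp hx

theorem mk_mem_smul_top_iff (K : Ideal B) (J : Ideal A) (b : B) :
    Ideal.Quotient.mk K b ∈ J • (⊤ : Submodule A (B ⧸ K)) ↔ b ∈ K ⊔ J.map (algebraMap A B) := by
  rw [Ideal.smul_top_eq_map, Submodule.restrictScalars_mem]
  rw [show J.map (algebraMap A (B ⧸ K)) = (J.map (algebraMap A B)).map (Ideal.Quotient.mk K) by
    rw [Ideal.map_map]; rfl]
  rw [← Ideal.mem_comap, Ideal.comap_map_of_surjective _ Ideal.Quotient.mk_surjective,
    ← RingHom.ker_eq_comap_bot, Ideal.mk_ker, sup_comm]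

theorem inj_mulQ_iff (K : Ideal B) (J : Ideal A) (h : B) :
    Inj (mulQ A K h) J ↔ ∀ b, h * b ∈ K ⊔ J.map (algebraMap A B) →
      b ∈ K ⊔ J.map (algebraMap A B) := by
  constructor
  · intro H b hb
    rw [← mk_mem_smul_top_iff] at hb ⊢
    apply H
    rw [map_mul] at hb
    exact hb
  · intro H x hx
    obtain ⟨b, rfl⟩ := Ideal.Quotient.mk_surjective x
    rw [mk_mem_smul_top_iff]
    apply H
    rw [← mk_mem_smul_top_iff, map_mul]
    exact hx

/-- `(B / K) / (h) = B / (K, h)` -/
noncomputable def quotEquiv (K : Ideal B) (h : B) :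
    ((B ⧸ K) ⧸ LinearMap.range (mulQ A K h)) ≃ₗ[A] (B ⧸ (K ⊔ Ideal.span {h})) := by
  refine LinearEquiv.symm (LinearEquiv.ofBijective
    ((Submodule.liftQ ((K ⊔ Ideal.span {h}).restrictScalars A)
      ((LinearMap.range (mulQ A K h)).mkQ.comp (Ideal.Quotient.mkₐ A K).toLinearMap) ?_).comp
      (Submodule.Quotient.restrictScalarsEquiv A (K ⊔ Ideal.span {h})).symm.toLinearMap) ?_)
  · intro x hx
    rw [Submodule.restrictScalars_mem] at hx
    obtain ⟨a, ha, b, hb, rfl⟩ := Submodule.mem_sup.mp hx
    obtain ⟨c, rfl⟩ := Ideal.mem_span_singleton'.mp hb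
    rw [LinearMap.mem_ker]
    change (LinearMap.range (mulQ A K h)).mkQ (Ideal.Quotient.mk K (a + c * h)) = 0
    rw [Submodule.mkQ_apply, Submodule.Quotient.mk_eq_zero, map_add,
      Ideal.Quotient.eq_zero_iff_mem.mpr ha, zero_add]
    exact ⟨Ideal.Quotient.mk K c, by rw [map_mul, mul_comm]; rfl⟩
  · constructor
    · rw [injective_iff_map_eq_zero]
      intro x hx
      obtain ⟨b, rfl⟩ := Ideal.Quotient.mk_surjective x
      change (LinearMap.range (mulQ A K h)).mkQ (Ideal.Quotient.mk K b) = 0 at hx
      rw [Submodule.mkQ_apply, Submodule.Quotient.mk_eq_zero] at hx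
      obtain ⟨y, hy⟩ := hx
      obtain ⟨c, rfl⟩ := Ideal.Quotient.mk_surjective y
      change Ideal.Quotient.mk K h * Ideal.Quotient.mk K c = _ at hy
      rw [← map_mul, Ideal.Quotient.eq] at hy
      apply Ideal.Quotient.eq_zero_iff_mem.mpr
      have : b = (-(h * c - b)) + c * h := by ring
      rw [this]
      exact Ideal.add_mem _ (Ideal.mem_sup_left (K.neg_mem hy))
        (Ideal.mem_sup_right (Ideal.mul_mem_left _ _ (Ideal.mem_span_singleton_self h)))
    · intro x
      obtain ⟨y, rfl⟩ := Submodule.mkQ_surjective _ x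
      obtain ⟨b, rfl⟩ := Ideal.Quotient.mk_surjective y
      exact ⟨Ideal.Quotient.mk _ b, rfl⟩

variable [IsArtinianRing A] [IsLocalRing A]

theorem regMod_iff (J : Ideal A) (hJ : J ≠ ⊤) (hs : List B) (K : Ideal B)
    [Module.Flat A (B ⧸ K)] :
    (RegMod K hs ↔ RegMod (K ⊔ J.map (algebraMap A B)) hs) ∧
      (RegMod K hs → Module.Flat A (B ⧸ (K ⊔ Ideal.ofList hs))) := by
  induction hs generalizing K with
  | nil =>
    refine ⟨by simp [RegMod], fun _ => ?_⟩
    rw [Ideal.ofList_nil, sup_bot_eq]
    infer_instance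
  | cons h t ih =>
    have hflat : (∀ b, h * b ∈ K → b ∈ K) → Module.Flat A (B ⧸ (K ⊔ Ideal.span {h})) := by
      intro H
      have := flat_quotient_range (f := mulQ A K h) ((mulQ_injective_iff K h).mpr H)
      exact Module.Flat.of_linearEquiv (quotEquiv K h).symm
    have hcomm : K ⊔ J.map (algebraMap A B) ⊔ Ideal.span {h} =
        K ⊔ Ideal.span {h} ⊔ J.map (algebraMap A B) := by
      rw [sup_assoc, sup_comm (J.map _), ← sup_assoc]
    have h1 : (∀ b, h * b ∈ K → b ∈ K) ↔ (∀ b, h * b ∈ K ⊔ J.map (algebraMap A B) →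
      b ∈ K ⊔ J.map (algebraMap A B)) := by
      rw [← mulQ_injective_iff (A := A), ← inj_mulQ_iff]
      exact ⟨fun H => inj_of_injective H J, fun H => H.injective hJ⟩
    refine ⟨?_, ?_⟩
    · rw [RegMod, RegMod, hcomm, h1]
      refine and_congr_right fun H => ?_
      rw [← h1] at H
      haveI := hflat H
      exact (ih (K ⊔ Ideal.span {h})).1
    · rintro ⟨H1, H2⟩
      haveI := hflat H1
      have := (ih (K ⊔ Ideal.span {h})).2 H2
      rw [Ideal.ofList_cons, ← sup_assoc]
      exact this

/-- ideals extended from a proper ideal of an Artinian local ring do not matter for being `⊤` -/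
theorem sup_map_eq_top_iff (J : Ideal A) (hJ : J ≠ ⊤) (K : Ideal B) :
    K ⊔ J.map (algebraMap A B) = ⊤ ↔ K = ⊤ := by
  refine ⟨fun h => ?_, fun h => by rw [h, top_sup_eq]⟩
  obtain ⟨N, hN⟩ := IsArtinianRing.isNilpotent_jacobson_bot (R := A)
  rw [IsLocalRing.jacobson_eq_maximalIdeal ⊥ bot_ne_top] at hN
  have hJN : J ^ N = ⊥ := by
    rw [eq_bot_iff]
    exact (Ideal.pow_right_mono (IsLocalRing.le_maximalIdeal hJ) N).trans (by rw [hN]; exact le_rfl)
  have h1 : J.map (algebraMap A B) ≤ nilradical B := by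
    intro x hx
    rw [mem_nilradical]
    refine ⟨N, ?_⟩
    have h2 := Ideal.pow_mem_pow hx N
    rw [← Ideal.map_pow, hJN, Ideal.map_bot] at h2
    exact h2
  by_contra hK
  obtain ⟨m, hm, hKm⟩ := Ideal.exists_le_maximal K hK
  refine hm.ne_top (top_le_iff.mp ?_)
  rw [← h]
  exact sup_le hKm (h1.trans (nilradical_le_prime m))

end K82.ArtinReg
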