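import Mathlib.RingTheory.Flat.Basic
import Mathlib.LinearAlgebra.TensorProduct.Tower
import Mathlib.RingTheory.Flat.Tensor
import Mathlib.Algebra.Module.Torsion.Basic
import Mathlib.RingTheory.Ideal.Maps
import Groth.Agent.FlatA.LocalCriterion

/-!
# Generation of `Tor₁` after base change

If `M/IM` is flat over `R/I`, then for a ring map `R → R'` with `I' = IR'` the kernel of
`I' ⊗_R M → R' ⊗_R M` is generated over `R'` by the image of the kernel of `I ⊗_R M → M`.
-/

namespace K82.TorSpan

open TensorProduct Function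

universe u v w

section KilledByI

variable {R : Type u} [CommRing R] {M : Type w} [AddCommGroup M] [Module R M]

/-- If `M/IM` is flat over `R/I`, injections of modules killed by `I` stay injective after
tensoring with `M` over `R`. -/
theorem rTensor_injective_of_killed (I : Ideal R) [Module.Flat (R ⧸ I) ((R ⧸ I) ⊗[R] M)]
    {V : Type v} [AddCommGroup V] [Module R V] (hV : ∀ r ∈ I, ∀ v : V, r • v = 0)
    (K : Submodule R V) : Injective (K.subtype.rTensor M) := by
  have hT : Module.IsTorsionBySet R V (I : Set R) := fun v r => hV r.1 r.2 v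
  letI : Module (R ⧸ I) V := hT.module
  haveI : IsScalarTower R (R ⧸ I) V := hT.isScalarTower
  let K' : Submodule (R ⧸ I) V :=
    { K with
      smul_mem' := by
        intro c x hx
        obtain ⟨c, rfl⟩ := Ideal.Quotient.mk_surjective c
        have h1 := K.smul_mem c hx
        have h2 : (Ideal.Quotient.mk I c) • x = c • x := by
          rw [← Ideal.Quotient.algebraMap_eq, algebraMap_smul]
        change (Ideal.Quotient.mk I c) • x ∈ K
        rw [h2]
        exact h1 }
  exact Groth.Agent.FlatA.LocalCriterion.rTensor_injective_of_flat_baseChange (R := R) (M := M)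
    (R ⧸ I) K'.subtype (Submodule.subtype_injective _)

end KilledByI

theorem exists_lTensor_ker_eq {R : Type*} [CommRing R] {G : Type*} [AddCommGroup G] [Module R G]
    [Module.Flat R G] {A B : Type*} [AddCommGroup A] [Module R A] [AddCommGroup B] [Module R B]
    (ρ : A →ₗ[R] B) (z : G ⊗[R] A) (hz : ρ.lTensor G z = 0) :
    ∃ τ : G ⊗[R] (LinearMap.ker ρ), (LinearMap.ker ρ).subtype.lTensor G τ = z := by
  have hexρ : Exact (LinearMap.ker ρ).subtype ρ := LinearMap.exact_subtype_ker_map ρ
  exact ((Module.Flat.lTensor_exact G hexρ) _).1 hz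

section Span

variable {R : Type u} {R' : Type v} [CommRing R] [CommRing R'] [Algebra R R']
  {M : Type w} [AddCommGroup M] [Module R M]

/-- `r' ⊗ i ↦ i r'` is surjective `R' ⊗ I → IR'`. -/
theorem liftBaseChange_idealMap_surjective (I : Ideal R) :
    Surjective (LinearMap.liftBaseChange R' (Algebra.idealMap R' I)) := by
  rw [← LinearMap.range_eq_top, eq_top_iff]
  rintro ⟨x, hx⟩ -
  have h1 : x ∈ (LinearMap.range (LinearMap.liftBaseChange R' (Algebra.idealMap R' I))).map
      (I.map (algebraMap R R')).subtype := by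
    have h2 : I.map (algebraMap R R') ≤
        (LinearMap.range (LinearMap.liftBaseChange R' (Algebra.idealMap R' I))).map
          (I.map (algebraMap R R')).subtype := by
      change Submodule.span R' _ ≤ _
      rw [Submodule.span_le]
      rintro _ ⟨i, hi, rfl⟩
      refine ⟨Algebra.idealMap R' I ⟨i, hi⟩, ⟨1 ⊗ₜ ⟨i, hi⟩, ?_⟩, rfl⟩
      simp
    exact h2 hx
  obtain ⟨z, hz, hzx⟩ := h1
  have : z = ⟨x, hx⟩ := Subtype.ext hzx
  rwa [← this]

/-- **Key lemma.** -/
theorem mem_span_of_rTensor_eq_zero (I : Ideal R) [Module.Flat (R ⧸ I) ((R ⧸ I) ⊗[R] M)]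
    (y : ↥(I.map (algebraMap R R')) ⊗[R] M)
    (hy : ((I.map (algebraMap R R')).subtype.restrictScalars R).rTensor M y = 0) :
    y ∈ Submodule.span R' ((Algebra.idealMap R' I).rTensor M ''
      {t : ↥I ⊗[R] M | (Submodule.subtype I).rTensor M t = 0}) := by
  -- a free cover of `R'`
  obtain ⟨G, _, _, _, c, hc⟩ := Groth.Agent.FlatA.TorOne.exists_free_cover R R'
  let μ : R' ⊗[R] I →ₗ[R] (I.map (algebraMap R R')) :=
    (LinearMap.liftBaseChange R' (Algebra.idealMap R' I)).restrictScalars R
  have hμ : Surjective μ := liftBaseChange_idealMap_surjective I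
  let ψ : G ⊗[R] I →ₗ[R] (I.map (algebraMap R R')) := μ ∘ₗ c.rTensor I
  have hψ : Surjective ψ := hμ.comp (LinearMap.rTensor_surjective I hc)
  have hψt : ∀ (g : G) (i : I), ψ (g ⊗ₜ i) = c g • Algebra.idealMap R' I i := by
    intro g i
    simp [ψ, μ]
  let ν : G ⊗[R] I →ₗ[R] G := (TensorProduct.rid R G).toLinearMap ∘ₗ (Submodule.subtype I).lTensor G
  have hνt : ∀ (g : G) (i : I), ν (g ⊗ₜ i) = (i : R) • g := by
    intro g i
    simp [ν]
  have hcν : c ∘ₗ ν = ((I.map (algebraMap R R')).subtype.restrictScalars R) ∘ₗ ψ := by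
    refine TensorProduct.ext' fun g i => ?_
    rw [LinearMap.comp_apply, hνt, LinearMap.comp_apply, hψt, map_smul, Algebra.smul_def]
    simp [mul_comm]
  have hrange : LinearMap.range ν = I • (⊤ : Submodule R G) := by
    apply le_antisymm
    · rintro _ ⟨u, rfl⟩
      induction u using TensorProduct.induction_on with
      | zero => rw [map_zero]; exact Submodule.zero_mem _
      | tmul g i => rw [hνt]; exact Submodule.smul_mem_smul i.2 trivial
      | add a b ha hb => rw [map_add]; exact Submodule.add_mem _ ha hb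
    · rw [Submodule.smul_le]
      intro r hr g _
      exact ⟨g ⊗ₜ ⟨r, hr⟩, hνt _ _⟩
  obtain ⟨y₀, rfl⟩ := LinearMap.rTensor_surjective M hψ y
  have h1 : c.rTensor M (ν.rTensor M y₀) = 0 := by
    rw [← LinearMap.comp_apply, ← LinearMap.rTensor_comp, hcν, LinearMap.rTensor_comp,
      LinearMap.comp_apply, hy]
  have hexL : Exact (LinearMap.ker c).subtype c := by
    intro x
    simp
  obtain ⟨lam, hlam⟩ := (rTensor_exact M hexL hc _).1 h1
  -- reduction modulo `I`
  let π : G →ₗ[R] (G ⧸ (I • (⊤ : Submodule R G))) := (I • (⊤ : Submodule R G)).mkQ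
  have hπν : π ∘ₗ ν = 0 := by
    ext u
    exact (Submodule.Quotient.mk_eq_zero _).2 (hrange ▸ LinearMap.mem_range_self ν _)
  let φ : LinearMap.ker c →ₗ[R] (G ⧸ (I • (⊤ : Submodule R G))) := π ∘ₗ (LinearMap.ker c).subtype
  have h2 : φ.rangeRestrict.rTensor M lam = 0 := by
    apply rTensor_injective_of_killed (M := M) I (V := G ⧸ (I • (⊤ : Submodule R G)))
      (fun r hr v => ?_) (LinearMap.range φ)
    · rw [map_zero, ← LinearMap.comp_apply, ← LinearMap.rTensor_comp]
      have h3 : (LinearMap.range φ).subtype ∘ₗ φ.rangeRestrict = φ := rfl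
      rw [h3]
      change ((π ∘ₗ (LinearMap.ker c).subtype).rTensor M) lam = 0
      rw [LinearMap.rTensor_comp, LinearMap.comp_apply, hlam, ← LinearMap.comp_apply,
        ← LinearMap.rTensor_comp, hπν]
      simp
    · obtain ⟨v, rfl⟩ := Submodule.mkQ_surjective _ v
      rw [← map_smul]
      exact (Submodule.Quotient.mk_eq_zero _).2 (Submodule.smul_mem_smul hr trivial)
  have hexφ : Exact (LinearMap.ker φ).subtype φ.rangeRestrict := by
    intro x
    simp [Subtype.ext_iff]
  obtain ⟨lam', hlam'⟩ := (rTensor_exact M hexφ φ.surjective_rangeRestrict _).1 h2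
  -- correct `y₀`
  have h3 : ∀ l : (LinearMap.ker φ) ⊗[R] M, ∃ y₁ : (G ⊗[R] I) ⊗[R] M,
      ν.rTensor M y₁ = (LinearMap.ker c).subtype.rTensor M ((LinearMap.ker φ).subtype.rTensor M l) ∧
      ψ.rTensor M y₁ = 0 := by
    intro l
    induction l using TensorProduct.induction_on with
    | zero => exact ⟨0, by simp, by simp⟩
    | tmul l m =>
      have h4 : ((l : LinearMap.ker c) : G) ∈ LinearMap.range ν := by
        rw [hrange]
        exact (Submodule.Quotient.mk_eq_zero _).1 l.2
      obtain ⟨u, hu⟩ := h4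
      refine ⟨u ⊗ₜ m, ?_, ?_⟩
      · simp [hu]
      · have h5 : ψ u = 0 := by
          apply Subtype.ext
          have h6 := LinearMap.congr_fun hcν u
          rw [LinearMap.comp_apply, hu, LinearMap.comp_apply] at h6
          have h7 : c ((l : LinearMap.ker c) : G) = 0 := (l : LinearMap.ker c).2
          rw [h7] at h6
          exact h6.symm
        rw [LinearMap.rTensor_tmul, h5, zero_tmul]
    | add a b ha hb =>
      obtain ⟨ya, ha1, ha2⟩ := ha
      obtain ⟨yb, hb1, hb2⟩ := hb
      exact ⟨ya + yb, by rw [map_add, ha1, hb1, map_add, map_add],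
        by rw [map_add, ha2, hb2, add_zero]⟩
  obtain ⟨y₁, hy₁, hy₁'⟩ := h3 lam'
  rw [hlam', hlam] at hy₁
  -- `y₂ = y₀ - y₁`
  have h8 : ν.rTensor M (y₀ - y₁) = 0 := by rw [map_sub, hy₁, sub_self]
  have h9 : ψ.rTensor M (y₀ - y₁) = ψ.rTensor M y₀ := by rw [map_sub, hy₁', sub_zero]
  rw [← h9]
  -- use flatness of `G`
  let ρ : ↥I ⊗[R] M →ₗ[R] R ⊗[R] M := (Submodule.subtype I).rTensor M
  have hassoc : ∀ z : (G ⊗[R] I) ⊗[R] M, (TensorProduct.rid R G).symm.toLinearMap.rTensor M
      (ν.rTensor M z) = (TensorProduct.assoc R G R M).symm (ρ.lTensor G (TensorProduct.assoc R G I M z)) := by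
    intro z
    induction z using TensorProduct.induction_on with
    | zero => simp
    | add a b ha hb => simp only [map_add, ha, hb]
    | tmul u m =>
      induction u using TensorProduct.induction_on with
      | zero => simp
      | add a b ha hb => simp only [map_add, ha, hb, add_tmul]
      | tmul g i =>
        have h20 : ((i : R) • g) ⊗ₜ[R] (1 : R) = g ⊗ₜ[R] (i : R) := by
          rw [smul_tmul, smul_eq_mul, mul_one]
        simp [ρ, ν, h20, smul_tmul']
  have h10 : ρ.lTensor G (TensorProduct.assoc R G I M (y₀ - y₁)) = 0 := by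
    have := hassoc (y₀ - y₁)
    rw [h8, map_zero] at this
    exact ((TensorProduct.assoc R G R M).symm.map_eq_zero_iff.1 this.symm)
  obtain ⟨τ, hτ⟩ := exists_lTensor_ker_eq (G := G) ρ _ h10
  have h11 : ∀ τ : G ⊗[R] (LinearMap.ker ρ),
      ψ.rTensor M ((TensorProduct.assoc R G I M).symm ((LinearMap.ker ρ).subtype.lTensor G τ)) ∈
      Submodule.span R' ((Algebra.idealMap R' I).rTensor M ''
      {t : ↥I ⊗[R] M | (Submodule.subtype I).rTensor M t = 0}) := by
    intro τ
    induction τ using TensorProduct.induction_on with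
    | zero => simp
    | add a b ha hb => simp only [map_add]; exact Submodule.add_mem _ ha hb
    | tmul g t =>
      have h12 : ∀ t : ↥I ⊗[R] M, ψ.rTensor M ((TensorProduct.assoc R G I M).symm (g ⊗ₜ t)) =
          c g • (Algebra.idealMap R' I).rTensor M t := by
        intro t
        induction t using TensorProduct.induction_on with
        | zero => simp
        | add a b ha hb => simp only [tmul_add, map_add, ha, hb, smul_add]
        | tmul i m => simp [hψt, smul_tmul']
      rw [LinearMap.lTensor_tmul, h12]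
      exact Submodule.smul_mem _ _ (Submodule.subset_span ⟨t, t.2, rfl⟩)
  have h13 := h11 τ
  rw [hτ, LinearEquiv.symm_apply_apply] at h13
  exact h13

end Span

end K82.TorSpan
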