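import Mathlib.RingTheory.IsTensorProduct
import Mathlib.RingTheory.Localization.BaseChange
import Groth.Agent.CAlg.K82.TorSpan

/-!
# Flatness modulo an ideal under base change and localization
-/

namespace K82.FlatBase

open TensorProduct Function

section Localize

variable {A B : Type*} [CommRing A] [CommRing B] [Algebra A B]
  {N : Type*} [AddCommGroup N] [Module A N] [Module B N] [IsScalarTower A B N]
  {N' : Type*} [AddCommGroup N'] [Module A N'] [Module B N'] [IsScalarTower A B N']

/-- Injectivity after tensoring with `N` localizes to a localization `N'` of `N` over an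
`A`-algebra. -/
theorem rTensor_injective_of_localized (W : Submonoid B) (g : N →ₗ[B] N') [IsLocalizedModule W g]
    {L V : Type*} [AddCommGroup L] [Module A L] [AddCommGroup V] [Module A V] (i : L →ₗ[A] V)
    (h : Injective (i.rTensor N)) : Injective (i.rTensor N') := by
  let gJ := TensorProduct.AlgebraTensorModule.rTensor A L g
  let gA := TensorProduct.AlgebraTensorModule.rTensor A V g
  let φ := TensorProduct.AlgebraTensorModule.lTensor B N i
  let φ' := TensorProduct.AlgebraTensorModule.lTensor B N' i
  have hcomm : ∀ x, gA (φ x) = φ' (gJ x) := by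
    intro x
    induction x using TensorProduct.induction_on with
    | zero => simp
    | tmul a b => simp [gA, φ, φ', gJ]
    | add a b ha hb => simp only [map_add, ha, hb]
  have hφinj : Injective φ := by
    have h4 : ∀ z : N ⊗[A] L, φ z = TensorProduct.comm A V N (i.rTensor N
        (TensorProduct.comm A N L z)) := by
      intro z
      induction z using TensorProduct.induction_on with
      | zero => simp
      | tmul a b => simp [φ]
      | add a b ha hb => simp only [map_add, ha, hb]
    have h5 : (φ : _ → _) = (TensorProduct.comm A V N) ∘ (i.rTensor N) ∘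
      (TensorProduct.comm A N L) := funext h4
    rw [h5]
    exact (LinearEquiv.injective _).comp (h.comp (LinearEquiv.injective _))
  have hφ'inj : Injective φ' := by
    rw [injective_iff_map_eq_zero]
    intro y hy
    obtain ⟨⟨x, s⟩, hx⟩ := IsLocalizedModule.surj W gJ y
    have h1 : gA (φ x) = 0 := by
      rw [hcomm, ← hx]
      change φ' ((s : B) • y) = 0
      rw [map_smul, hy, smul_zero]
    obtain ⟨t, ht⟩ := (IsLocalizedModule.eq_zero_iff W gA).1 h1
    have h2 : φ (t • x) = 0 := by
      change φ ((t : B) • x) = 0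
      rw [map_smul]
      exact ht
    have h3 : t • x = 0 := hφinj (by rw [h2, map_zero])
    have h6 : gJ x = 0 := (IsLocalizedModule.eq_zero_iff W gJ).2 ⟨_, h3⟩
    rw [h6] at hx
    exact (IsLocalizedModule.smul_inj gJ s y 0).1 (hx.trans (smul_zero s).symm)
  have h4 : ∀ z : L ⊗[A] N', i.rTensor N' z = TensorProduct.comm A N' V (φ'
      (TensorProduct.comm A L N' z)) := by
    intro z
    induction z using TensorProduct.induction_on with
    | zero => simp
    | tmul a b => simp [φ']
    | add a b ha hb => simp only [map_add, ha, hb]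
  have h5 : (i.rTensor N' : _ → _) = (TensorProduct.comm A N' V) ∘ φ' ∘
    (TensorProduct.comm A L N') := funext h4
  rw [h5]
  exact (LinearEquiv.injective _).comp (hφ'inj.comp (LinearEquiv.injective _))

/-- Converse of `rTensor_injective_of_flat_baseChange`. -/
theorem flat_baseChange_of_rTensor_injective (R₀ : Type*) [CommRing R₀] [Algebra A R₀]
    (h : ∀ J : Ideal R₀, Injective ((J.subtype.restrictScalars A).rTensor N)) :
    Module.Flat R₀ (R₀ ⊗[A] N) := by
  rw [Module.Flat.iff_rTensor_injective']
  intro J
  let e₁ := TensorProduct.AlgebraTensorModule.cancelBaseChange A R₀ R₀ J N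
  let e₂ := TensorProduct.AlgebraTensorModule.cancelBaseChange A R₀ R₀ R₀ N
  have key : ∀ x, J.subtype.rTensor (R₀ ⊗[A] N) x =
      e₂.symm ((J.subtype.restrictScalars A).rTensor N (e₁ x)) := by
    intro x
    obtain ⟨x, rfl⟩ := e₁.symm.surjective x
    rw [LinearEquiv.apply_symm_apply, LinearEquiv.eq_symm_apply]
    induction x using TensorProduct.induction_on with
    | zero => simp
    | tmul k m => simp [e₁, e₂]
    | add x y hx hy => simp only [map_add, hx, hy]
  have h2 : (J.subtype.rTensor (R₀ ⊗[A] N) : _ → _) =
      e₂.symm ∘ ((J.subtype.restrictScalars A).rTensor N) ∘ e₁ := funext key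
  rw [h2]
  exact e₂.symm.injective.comp ((h J).comp e₁.injective)

/-- Flatness of the base change to `R₀` localizes. -/
theorem flat_baseChange_localized (R₀ : Type*) [CommRing R₀] [Algebra A R₀] (W : Submonoid B)
    (g : N →ₗ[B] N') [IsLocalizedModule W g] (h : Module.Flat R₀ (R₀ ⊗[A] N)) :
    Module.Flat R₀ (R₀ ⊗[A] N') := by
  refine flat_baseChange_of_rTensor_injective R₀ fun J => ?_
  refine rTensor_injective_of_localized W g _ ?_
  exact Groth.Agent.FlatA.LocalCriterion.rTensor_injective_of_flat_baseChange (R := A) (M := N)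
    R₀ J.subtype (Submodule.subtype_injective _)

end Localize

section BaseChange

variable {R R' : Type*} [CommRing R] [CommRing R'] [Algebra R R']
  {M : Type*} [AddCommGroup M] [Module R M]

/-- If `M/IM` is flat over `R/I` then `M'/I'M'` is flat over `R'/I'`, for `M' = R' ⊗ M` and
`I' = I R'`. -/
theorem flat_quotient_baseChange (I : Ideal R) (h : Module.Flat (R ⧸ I) ((R ⧸ I) ⊗[R] M)) :
    Module.Flat (R' ⧸ I.map (algebraMap R R')) ((R' ⧸ I.map (algebraMap R R')) ⊗[R'] (R' ⊗[R] M)) := by
  letI : Algebra (R ⧸ I) (R' ⧸ I.map (algebraMap R R')) :=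
    (Ideal.quotientMap (I.map (algebraMap R R')) (algebraMap R R') Ideal.le_comap_map).toAlgebra
  haveI : IsScalarTower R (R ⧸ I) (R' ⧸ I.map (algebraMap R R')) :=
    IsScalarTower.of_algebraMap_eq fun r => rfl
  let e₁ := TensorProduct.AlgebraTensorModule.cancelBaseChange R (R ⧸ I)
    (R' ⧸ I.map (algebraMap R R')) (R' ⧸ I.map (algebraMap R R')) M
  let e₂ := TensorProduct.AlgebraTensorModule.cancelBaseChange R R'
    (R' ⧸ I.map (algebraMap R R')) (R' ⧸ I.map (algebraMap R R')) M
  exact Module.Flat.of_linearEquiv (e₂ ≪≫ₗ e₁.symm)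

end BaseChange

section Injective

variable {R S R' T : Type*} [CommRing R] [CommRing S] [CommRing R'] [CommRing T]
  [Algebra R S] [Algebra R R'] [Algebra R T] [Algebra S T] [Algebra R' T]
  [IsScalarTower R S T] [IsScalarTower R R' T]
  {M N M' : Type*} [AddCommGroup M] [Module R M] [AddCommGroup N] [Module R' N] [Module T N]
  [IsScalarTower R' T N]
  [AddCommGroup M'] [Module R' M'] [Module T M'] [IsScalarTower R' T M'] [Module R M']
  [IsScalarTower R R' M']

/-- The isomorphism `P ⊗_R M ≃ N ⊗_{R'} P` for `N ≃ R' ⊗_R M`. -/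
noncomputable def theta (e : N ≃ₗ[R'] R' ⊗[R] M) (P : Type*) [AddCommGroup P] [Module R' P]
    [Module R P] [IsScalarTower R R' P] : P ⊗[R] M ≃ₗ[R'] N ⊗[R'] P :=
  (TensorProduct.AlgebraTensorModule.cancelBaseChange R R' R' P M).symm ≪≫ₗ
    (LinearEquiv.lTensor P e.symm) ≪≫ₗ TensorProduct.comm R' P N

omit [Module R M'] [IsScalarTower R R' M'] in
theorem theta_tmul (e : N ≃ₗ[R'] R' ⊗[R] M) (P : Type*) [AddCommGroup P] [Module R' P]
    [Module R P] [IsScalarTower R R' P] (p : P) (m : M) :
    theta e P (p ⊗ₜ m) = e.symm (1 ⊗ₜ m) ⊗ₜ p := by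
  simp [theta]

/-- Let `N ≃ R' ⊗_R M`, `M'` a localization of `N` over the `R'`-algebra `T`. If `M/IM` is flat
over `R/I` and the map `ker (I ⊗_R M → M) → I' ⊗_{R'} M'` is zero, then `I' ⊗_{R'} M' → M'` is
injective. -/
theorem rTensor_injective (I : Ideal R) [Module.Flat (R ⧸ I) ((R ⧸ I) ⊗[R] M)]
    (e : N ≃ₗ[R'] R' ⊗[R] M) (W : Submonoid T) (g : N →ₗ[T] M') [IsLocalizedModule W g]
    (f : M →ₗ[R] M') (hf : ∀ m, g (e.symm (1 ⊗ₜ m)) = f m)
    (h3 : ∀ x : ↥I ⊗[R] M, (Submodule.subtype I).rTensor M x = 0 →
      (TensorProduct.mapOfCompatibleSMul R' R R ↥(I.map (algebraMap R R')) M')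
        ((TensorProduct.map (Algebra.idealMap R' I) f) x) = 0) :
    Injective ((I.map (algebraMap R R')).subtype.rTensor M') := by
  let I' := I.map (algebraMap R R')
  let gI := TensorProduct.AlgebraTensorModule.rTensor R' I' g
  let gR := TensorProduct.AlgebraTensorModule.rTensor R' R' g
  let φ := TensorProduct.AlgebraTensorModule.lTensor T N I'.subtype
  let φ' := TensorProduct.AlgebraTensorModule.lTensor T M' I'.subtype
  have hcomm : ∀ x, gR (φ x) = φ' (gI x) := by
    intro x
    induction x using TensorProduct.induction_on with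
    | zero => simp
    | tmul a b => simp [gR, φ, φ', gI]
    | add a b ha hb => simp only [map_add, ha, hb]
  -- the kernel of `φ` dies under `gI`
  have hker : ∀ x, φ x = 0 → gI x = 0 := by
    intro x hx
    obtain ⟨y, rfl⟩ := (theta e I').surjective x
    have h5 : ∀ y : I' ⊗[R] M, φ (theta e I' y) =
        theta e R' ((I'.subtype.restrictScalars R).rTensor M y) := by
      intro y
      induction y using TensorProduct.induction_on with
      | zero => simp
      | tmul a b => simp [φ, theta_tmul]
      | add a b ha hb => simp only [map_add, ha, hb]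
    rw [h5] at hx
    have h6 := TorSpan.mem_span_of_rTensor_eq_zero I y ((theta e R').map_eq_zero_iff.1 hx)
    have h7 : ∀ y : I' ⊗[R] M, ∀ r : R', gI (theta e I' (r • y)) =
        algebraMap R' T r • gI (theta e I' y) := by
      intro y r
      rw [map_smul (theta e I'), ← algebraMap_smul T r (theta e I' y), map_smul gI]
    refine Submodule.span_induction (p := fun y _ => gI (theta e I' y) = 0) ?_ ?_ ?_ ?_ h6
    · rintro _ ⟨t, ht, rfl⟩
      have h8 := h3 t ht
      have h9 : ∀ t : ↥I ⊗[R] M, gI (theta e I' ((Algebra.idealMap R' I).rTensor M t)) =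
          TensorProduct.comm R' I' M' ((TensorProduct.mapOfCompatibleSMul R' R R I' M')
        ((TensorProduct.map (Algebra.idealMap R' I) f) t)) := by
        intro t
        induction t using TensorProduct.induction_on with
        | zero => simp
        | tmul a b => simp [gI, theta_tmul, hf]
        | add a b ha hb => simp only [map_add, ha, hb]
      rw [h9, h8, map_zero]
    · simp
    · intro a b _ _ ha hb
      rw [map_add, map_add, ha, hb, add_zero]
    · intro r a _ ha
      rw [h7, ha, smul_zero]
  have hφ'inj : Injective φ' := by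
    rw [injective_iff_map_eq_zero]
    intro y hy
    obtain ⟨⟨x, s⟩, hx⟩ := IsLocalizedModule.surj W gI y
    have h1 : gR (φ x) = 0 := by
      rw [hcomm, ← hx]
      change φ' ((s : T) • y) = 0
      rw [map_smul, hy, smul_zero]
    obtain ⟨t, ht⟩ := (IsLocalizedModule.eq_zero_iff W gR).1 h1
    have h2 : φ (t • x) = 0 := by
      change φ ((t : T) • x) = 0
      rw [map_smul]
      exact ht
    have h3 := hker _ h2
    have h4 : (t : T) • gI x = 0 := by rw [← map_smul]; exact h3
    have h6 : gI x = 0 := (IsLocalizedModule.smul_inj gI t _ 0).1 (by rw [smul_zero]; exact h4)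
    rw [h6] at hx
    exact (IsLocalizedModule.smul_inj gI s y 0).1 (hx.trans (smul_zero s).symm)
  have h4 : ∀ z : I' ⊗[R'] M', I'.subtype.rTensor M' z = TensorProduct.comm R' M' R' (φ'
      (TensorProduct.comm R' I' M' z)) := by
    intro z
    induction z using TensorProduct.induction_on with
    | zero => simp
    | tmul a b => simp [φ']
    | add a b ha hb => simp only [map_add, ha, hb]
  have h5 : (I'.subtype.rTensor M' : _ → _) = (TensorProduct.comm R' M' R') ∘ φ' ∘
    (TensorProduct.comm R' I' M') := funext h4
  change Injective (I'.subtype.rTensor M')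
  rw [h5]
  exact (LinearEquiv.injective _).comp (hφ'inj.comp (LinearEquiv.injective _))

end Injective

end K82.FlatBase
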