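import Groth.Agent.CAlg.K82.FlatKer
import Mathlib.LinearAlgebra.Basis.VectorSpace
import Mathlib.LinearAlgebra.TensorProduct.Quotient
import Mathlib.LinearAlgebra.TensorProduct.Tower
import Mathlib.LinearAlgebra.DirectSum.Finsupp
import Mathlib.RingTheory.LocalRing.ResidueField.Basic
import Mathlib.RingTheory.Flat.Stability

/-!
# Descent of flatness along an injective ring map from a local ring with nilpotent maximal ideal
-/

set_option autoImplicit false

namespace K82.FlatDescent

open IsLocalRing TensorProduct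

universe u v w

theorem lTensor_subtype_mem {R : Type u} [CommRing R] {R' : Type v} [CommRing R'] [Algebra R R']
    {F : Type w} [AddCommGroup F] [Module R F] {I : Ideal R} {K : Submodule R F}
    (hK : K ≤ I • (⊤ : Submodule R F)) (z : R' ⊗[R] K) :
    LinearMap.lTensor R' K.subtype z ∈
      I.map (algebraMap R R') • (⊤ : Submodule R' (R' ⊗[R] F)) := by
  induction z with
  | zero => rw [map_zero]; exact zero_mem _
  | add x y hx hy =>
    rw [map_add]
    exact add_mem hx hy
  | tmul r c =>
    rw [LinearMap.lTensor_tmul]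
    have hc := hK c.2
    have key : ∀ x ∈ I • (⊤ : Submodule R F), r ⊗ₜ[R] x ∈
        I.map (algebraMap R R') • (⊤ : Submodule R' (R' ⊗[R] F)) := by
      intro x hx
      refine Submodule.smul_induction_on hx (fun a ha y _ => ?_) (fun x y hx hy => ?_)
      · have h1 : r ⊗ₜ[R] (a • y) = algebraMap R R' a • (r ⊗ₜ[R] y) := by
          rw [TensorProduct.tmul_smul]
          exact algebra_compatible_smul R' a _
        rw [h1]
        exact Submodule.smul_mem_smul (Ideal.mem_map_of_mem _ ha) trivial
      · rw [TensorProduct.tmul_add]; exact add_mem hx hy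
    exact key _ hc

theorem injective_of_ker_le {R : Type u} [CommRing R] (R' : Type v) [CommRing R'] [Algebra R R']
    {F : Type w} [AddCommGroup F] [Module R F] [Module.Flat R F] {M : Type*} [AddCommGroup M]
    [Module R M] [Module.Flat R' (R' ⊗[R] M)] {I : Ideal R} {k : ℕ} (hnil : I ^ k = ⊥)
    (hinj : Function.Injective (algebraMap R R')) (ψ : F →ₗ[R] M) (hψ : Function.Surjective ψ)
    (hK : LinearMap.ker ψ ≤ I • (⊤ : Submodule R F)) : Function.Injective ψ := by
  have hψ' : Function.Surjective (ψ.baseChange R') := LinearMap.lTensor_surjective R' hψ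
  have hJk : (I.map (algebraMap R R')) ^ k = ⊥ := by rw [← Ideal.map_pow, hnil, Ideal.map_bot]
  have hexact : Function.Exact (LinearMap.lTensor R' (LinearMap.ker ψ).subtype)
      (LinearMap.lTensor R' ψ) := lTensor_exact R' (LinearMap.exact_subtype_ker_map ψ) hψ
  have hmem : ∀ z : R' ⊗[R] F, ψ.baseChange R' z = 0 →
      z ∈ I.map (algebraMap R R') • (⊤ : Submodule R' (R' ⊗[R] F)) := by
    intro z hz
    obtain ⟨w, rfl⟩ := (hexact z).mp hz
    exact lTensor_subtype_mem hK w
  have hker' : LinearMap.ker (ψ.baseChange R') = ⊥ := by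
    rw [eq_bot_iff]
    refine K82.FlatKer.le_of_le_sup_smul hJk ?_
    rw [bot_sup_eq]
    intro z hz
    exact K82.FlatKer.mem_smul_ker hψ' hz (hmem z hz)
  rw [injective_iff_map_eq_zero]
  intro c hc
  have h1 : (1 : R') ⊗ₜ[R] c ∈ LinearMap.ker (ψ.baseChange R') := by
    rw [LinearMap.mem_ker, LinearMap.baseChange_tmul, hc, TensorProduct.tmul_zero]
  rw [hker', Submodule.mem_bot] at h1
  have h2 : Function.Injective (LinearMap.rTensor F (Algebra.linearMap R R')) :=
    Module.Flat.rTensor_preserves_injective_linearMap _ hinj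
  have h3 : LinearMap.rTensor F (Algebra.linearMap R R') ((1 : R) ⊗ₜ[R] c) = 0 := by
    rw [LinearMap.rTensor_tmul, Algebra.linearMap_apply, map_one]
    exact h1
  have h4 := h2 (h3.trans (map_zero _).symm)
  have h5 := congrArg (TensorProduct.lid R F) h4
  rwa [TensorProduct.lid_tmul, one_smul, map_zero] at h5

/-- `R` local with nilpotent maximal ideal, `R → R'` injective, `R' ⊗ M` flat over `R'`; then `M` is
flat over `R`. -/
theorem flat_of_injective (R : Type u) [CommRing R] [IsLocalRing R] {k : ℕ}
    (hnil : maximalIdeal R ^ k = ⊥) (R' : Type v) [CommRing R'] [Algebra R R']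
    (hinj : Function.Injective (algebraMap R R')) (M : Type w) [AddCommGroup M] [Module R M]
    [Module.Flat R' (R' ⊗[R] M)] : Module.Flat R M := by
  classical
  let κ := R ⧸ maximalIdeal R
  let _ : Field κ := Ideal.Quotient.field _
  let b := Module.Basis.ofVectorSpace κ (κ ⊗[R] M)
  let ι := Module.Basis.ofVectorSpaceIndex κ (κ ⊗[R] M)
  have hsurj : ∀ z : κ ⊗[R] M, ∃ x : M, (1 : κ) ⊗ₜ[R] x = z := by
    intro z
    induction z with
    | zero => exact ⟨0, TensorProduct.tmul_zero _ _⟩
    | add x y hx hy =>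
      obtain ⟨x', rfl⟩ := hx
      obtain ⟨y', rfl⟩ := hy
      exact ⟨x' + y', TensorProduct.tmul_add _ _ _⟩
    | tmul c x =>
      obtain ⟨c, rfl⟩ := Ideal.Quotient.mk_surjective c
      refine ⟨c • x, ?_⟩
      rw [← TensorProduct.smul_tmul, Algebra.smul_def, mul_one]
      rfl
  have hker : ∀ x : M, (1 : κ) ⊗ₜ[R] x = 0 → x ∈ maximalIdeal R • (⊤ : Submodule R M) := by
    intro x hx
    have h1 := congrArg (TensorProduct.quotTensorEquivQuotSMul M (maximalIdeal R)) hx
    rw [map_zero] at h1
    have h2 : TensorProduct.quotTensorEquivQuotSMul M (maximalIdeal R) ((1 : κ) ⊗ₜ[R] x) =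
        Submodule.Quotient.mk x := by
      have := TensorProduct.quotTensorEquivQuotSMul_mk_tmul (maximalIdeal R) (1 : R) x
      rw [one_smul] at this
      exact this
    rw [h2, Submodule.Quotient.mk_eq_zero] at h1
    exact h1
  choose e he using fun i : ι => hsurj (b i)
  let ψ : (ι →₀ R) →ₗ[R] M := Finsupp.linearCombination R e
  -- the reduction of `ψ`
  have hred : ∀ c : ι →₀ R, (1 : κ) ⊗ₜ[R] ψ c =
      c.sum fun i a => (Ideal.Quotient.mk (maximalIdeal R) a) • b i := by
    intro c
    rw [Finsupp.linearCombination_apply, Finsupp.sum, TensorProduct.tmul_sum, Finsupp.sum]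
    refine Finset.sum_congr rfl fun i _ => ?_
    rw [TensorProduct.tmul_smul, he]
    rfl
  have hψ1 : ∀ z : κ ⊗[R] M, ∃ c, (1 : κ) ⊗ₜ[R] ψ c = z := by
    intro z
    have hz : z ∈ Submodule.span κ (Set.range b) := by rw [b.span_eq]; trivial
    induction hz using Submodule.span_induction with
    | mem x h =>
      obtain ⟨i, rfl⟩ := h
      exact ⟨Finsupp.single i 1, by rw [Finsupp.linearCombination_single, one_smul, he]⟩
    | zero => exact ⟨0, by rw [map_zero, TensorProduct.tmul_zero]⟩
    | add x y _ _ hx hy =>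
      obtain ⟨c, rfl⟩ := hx
      obtain ⟨d, rfl⟩ := hy
      exact ⟨c + d, by rw [map_add, TensorProduct.tmul_add]⟩
    | smul a x _ hx =>
      obtain ⟨c, rfl⟩ := hx
      obtain ⟨a, rfl⟩ := Ideal.Quotient.mk_surjective a
      exact ⟨a • c, by rw [map_smul, TensorProduct.tmul_smul]; rfl⟩
  have hψ : Function.Surjective ψ := by
    have h1 : (⊤ : Submodule R M) ≤ LinearMap.range ψ ⊔ maximalIdeal R • (⊤ : Submodule R M) := by
      intro x _
      obtain ⟨c, hc⟩ := hψ1 (1 ⊗ₜ[R] x)
      have h2 : x - ψ c ∈ maximalIdeal R • (⊤ : Submodule R M) := by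
        apply hker
        rw [TensorProduct.tmul_sub, hc, sub_self]
      exact Submodule.mem_sup.mpr ⟨ψ c, ⟨c, rfl⟩, _, h2, by abel⟩
    have h2 := K82.FlatKer.le_of_le_sup_smul hnil h1
    intro x
    exact h2 (Submodule.mem_top (x := x))
  -- the kernel is contained in `m F`
  have hK : LinearMap.ker ψ ≤ maximalIdeal R • (⊤ : Submodule R (ι →₀ R)) := by
    intro c hc
    have h1 := hred c
    rw [LinearMap.mem_ker.mp hc, TensorProduct.tmul_zero] at h1
    have h2 : ∀ i, c i ∈ maximalIdeal R := by
      have hli := b.linearIndependent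
      rw [linearIndependent_iff'] at hli
      intro i
      by_cases hi : i ∈ c.support
      · exact Ideal.Quotient.eq_zero_iff_mem.mp
          (hli c.support (fun i => Ideal.Quotient.mk (maximalIdeal R) (c i)) h1.symm i hi)
      · rw [Finsupp.notMem_support_iff.mp hi]; exact zero_mem _
    rw [← Finsupp.sum_single c]
    refine sum_mem fun i _ => ?_
    have : Finsupp.single i (c i) = c i • Finsupp.single i (1 : R) := by
      rw [Finsupp.smul_single, smul_eq_mul, mul_one]
    rw [this]
    exact Submodule.smul_mem_smul (h2 i) trivial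
  exact Module.Flat.of_linearEquiv (LinearEquiv.ofBijective ψ
    ⟨injective_of_ker_le R' hnil hinj ψ hψ hK, hψ⟩).symm

end K82.FlatDescent
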