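import Groth.Agent.CAlg.K82.ArtinFlat

/-!
# Kernels onto flat modules, nilpotent Nakayama
-/

set_option autoImplicit false

namespace K82.FlatKer

open IsLocalRing

universe u v w

variable {A : Type u} [CommRing A] {M : Type v} [AddCommGroup M] [Module A M]
  {P : Type w} [AddCommGroup P] [Module A P]

/-- if `ψ : M → P` is onto a flat module, then `ker ψ ∩ J M = J ker ψ` -/
theorem mem_smul_ker [Module.Flat A P] {ψ : M →ₗ[A] P} (hψ : Function.Surjective ψ) {J : Ideal A}
    {x : M} (hx : ψ x = 0) (hJ : x ∈ J • (⊤ : Submodule A M)) :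
    x ∈ J • LinearMap.ker ψ := by
  obtain ⟨n, a, m, ha, rfl⟩ := K82.ArtinFlat.exists_of_mem_smul_top hJ
  have h0 : ∑ i, a i • ψ (m i) = 0 := by
    rw [← hx, map_sum]
    exact Finset.sum_congr rfl fun i _ => (map_smul ψ _ _).symm
  obtain ⟨k, α, z, h1, h2⟩ := Module.Flat.isTrivialRelation_of_sum_smul_eq_zero h0
  choose y hy using fun j => hψ (z j)
  have h3 : ∑ i, a i • m i = ∑ i, a i • (m i - ∑ j, α i j • y j) := by
    simp only [smul_sub, Finset.sum_sub_distrib, Finset.smul_sum, smul_smul]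
    rw [Finset.sum_comm (s := Finset.univ) (t := Finset.univ)
      (f := fun i j => (a i * α i j) • y j)]
    simp only [← Finset.sum_smul, h2, zero_smul, Finset.sum_const_zero, sub_zero]
  rw [h3]
  refine sum_mem fun i _ => Submodule.smul_mem_smul (ha i) ?_
  rw [LinearMap.mem_ker, map_sub, map_sum, sub_eq_zero]
  exact (h1 i).trans (Finset.sum_congr rfl fun j _ => by rw [map_smul, hy])

/-- Nakayama for a nilpotent ideal -/
theorem le_of_le_sup_smul {I : Ideal A} {k : ℕ} (hI : I ^ k = ⊥) {N Q : Submodule A M}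
    (h : N ≤ Q ⊔ I • N) : N ≤ Q := by
  have h1 : ∀ j : ℕ, N ≤ Q ⊔ I ^ j • N := by
    intro j
    induction j with
    | zero => rw [pow_zero, Submodule.one_smul]; exact le_sup_right
    | succ j ih =>
      refine ih.trans (sup_le le_sup_left ?_)
      calc I ^ j • N ≤ I ^ j • (Q ⊔ I • N) := Submodule.smul_mono le_rfl h
        _ = I ^ j • Q ⊔ I ^ (j + 1) • N := by
          rw [Submodule.smul_sup, ← Submodule.mul_smul, pow_succ]
        _ ≤ Q ⊔ I ^ (j + 1) • N := sup_le_sup_right Submodule.smul_le_right _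
  have h2 := h1 k
  rwa [hI, Submodule.bot_smul, sup_bot_eq] at h2

theorem exists_pow_eq_bot [IsArtinianRing A] [IsLocalRing A] {J : Ideal A} (hJ : J ≠ ⊤) :
    ∃ N : ℕ, J ^ N = ⊥ := by
  obtain ⟨N, hN⟩ := IsArtinianRing.isNilpotent_jacobson_bot (R := A)
  rw [IsLocalRing.jacobson_eq_maximalIdeal ⊥ bot_ne_top] at hN
  refine ⟨N, ?_⟩
  rw [eq_bot_iff]
  exact (Ideal.pow_right_mono (IsLocalRing.le_maximalIdeal hJ) N).trans (by rw [hN]; exact le_rfl)

end K82.FlatKer
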