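import Mathlib.RingTheory.NoetherNormalization
import Mathlib.RingTheory.IntegralClosure.IsIntegralClosure.Basic
import Mathlib.Tactic

/-!
# Noether normalization with integer coefficients

Nagata's change of variables has integer coefficients.  The proofs of the lemmas up to
`T_leadingcoeff_isUnit` follow `Mathlib.RingTheory.NoetherNormalization` (where they are private).
-/

set_option autoImplicit false

namespace K82.NoetherZ

open Polynomial MvPolynomial Ideal Nat RingHom List

universe u

variable {k : Type u} [Field k] {n : ℕ} (f : MvPolynomial (Fin (n + 1)) k)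
variable (v w : Fin (n + 1) →₀ ℕ)

/-- `up` is defined as `2 + f.totalDegree`. Any big enough number would work. -/
local notation3 "up" => 2 + f.totalDegree

variable {f v} in
private lemma lt_up (vlt : ∀ i, v i < up) : ∀ l ∈ ofFn v, l < up := by
  grind

/-- `r` maps `(i : Fin (n + 1))` to `up ^ i`. -/
local notation3 "r" => fun (i : Fin (n + 1)) ↦ up ^ i.1

/-- `X_i ↦ X_i + c • X_0 ^ r_i` when `i ≠ 0` and `X_0` to `X_0`. -/
noncomputable abbrev T1 (c : k) :
    MvPolynomial (Fin (n + 1)) k →ₐ[k] MvPolynomial (Fin (n + 1)) k :=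
  aeval fun i ↦ if i = 0 then X 0 else X i + c • X 0 ^ r i

lemma t1_comp_t1_neg (c : k) : (T1 f c).comp (T1 f (-c)) = AlgHom.id _ _ := by
  rw [comp_aeval, ← MvPolynomial.aeval_X_left]
  ext i v
  cases i using Fin.cases <;> simp

/-- `T1 f 1` leads to an algebra equiv `T f`. -/
noncomputable abbrev T := AlgEquiv.ofAlgHom (T1 f 1) (T1 f (-1))
  (t1_comp_t1_neg f 1) (by simpa using t1_comp_t1_neg f (-1))

private lemma sum_r_mul_ne (vlt : ∀ i, v i < up) (wlt : ∀ i, w i < up) (ne : v ≠ w) :
    ∑ x : Fin (n + 1), r x * v x ≠ ∑ x : Fin (n + 1), r x * w x := by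
  intro h
  refine ne <| Finsupp.ext <| congrFun <| ofFn_inj.mp ?_
  apply ofDigits_inj_of_len_eq (Nat.lt_add_right f.totalDegree one_lt_two)
    (by simp) (lt_up vlt) (lt_up wlt)
  simpa only [ofDigits_eq_sum_mapIdx, mapIdx_eq_ofFn, get_ofFn, length_ofFn,
    Fin.val_cast, mul_comm, sum_ofFn] using! h

private lemma degreeOf_zero_t {a : k} (ha : a ≠ 0) : ((T f) (monomial v a)).degreeOf 0 =
    ∑ i : Fin (n + 1), (r i) * v i := by
  rw [← natDegree_finSuccEquiv, monomial_eq, Finsupp.prod_pow v fun a ↦ X a]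
  simp only [Fin.prod_univ_succ, Fin.sum_univ_succ, map_mul, map_prod, map_pow,
    AlgEquiv.ofAlgHom_apply, MvPolynomial.aeval_C, MvPolynomial.aeval_X, if_pos, Fin.succ_ne_zero,
    ite_false, one_smul, map_add, finSuccEquiv_X_zero, finSuccEquiv_X_succ, algebraMap_eq]
  have h (i : Fin n) :
      (Polynomial.C (X (R := k) i) + Polynomial.X ^ r i.succ) ^ v i.succ ≠ 0 :=
    pow_ne_zero (v i.succ) (leadingCoeff_ne_zero.mp <| by simp [add_comm, leadingCoeff_X_pow_add_C])
  rw [natDegree_mul (by simp [ha]) (mul_ne_zero (by simp) (Finset.prod_ne_zero_iff.mpr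
    (fun i _ ↦ h i))), natDegree_mul (by simp) (Finset.prod_ne_zero_iff.mpr (fun i _ ↦ h i)),
    natDegree_prod _ _ (fun i _ ↦ h i), natDegree_finSuccEquiv, degreeOf_C]
  simpa only [natDegree_pow, zero_add, natDegree_X, mul_one, Fin.val_zero, pow_zero, one_mul,
    add_right_inj] using Finset.sum_congr rfl (fun i _ ↦ by
    rw [add_comm (Polynomial.C _), natDegree_X_pow_add_C, mul_comm])

/-- `T` maps different monomials of `f` to polynomials with different degrees in `X_0`. -/
private lemma degreeOf_t_ne_of_ne (hv : v ∈ f.support) (hw : w ∈ f.support) (ne : v ≠ w) :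
    (T f <| monomial v <| coeff v f).degreeOf 0 ≠
    (T f <| monomial w <| coeff w f).degreeOf 0 := by
  rw [degreeOf_zero_t _ _ <| mem_support_iff.mp hv, degreeOf_zero_t _ _ <| mem_support_iff.mp hw]
  refine sum_r_mul_ne f v w (fun i ↦ ?_) (fun i ↦ ?_) ne <;>
  exact lt_of_le_of_lt ((monomial_le_degreeOf i ‹_›).trans (degreeOf_le_totalDegree f i))
    (by lia)

private lemma leadingCoeff_finSuccEquiv_t :
    (finSuccEquiv k n ((T f) ((monomial v) (coeff v f)))).leadingCoeff =
    algebraMap k _ (coeff v f) := by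
  rw [monomial_eq, Finsupp.prod_fintype]
  · simp only [map_mul, map_prod, leadingCoeff_mul, leadingCoeff_prod]
    rw [AlgEquiv.ofAlgHom_apply, algHom_C, algebraMap_eq, finSuccEquiv_apply,
      eval₂Hom_C, coe_comp]
    simp only [AlgEquiv.ofAlgHom_apply, Function.comp_apply, leadingCoeff_C, map_pow,
      leadingCoeff_pow, algebraMap_eq]
    have : ∀ j, ((finSuccEquiv k n) ((T1 f) 1 (X j))).leadingCoeff = 1 := fun j ↦ by
      by_cases h : j = 0
      · simp [h, finSuccEquiv_apply]
      · simp only [aeval_eq_bind₁, bind₁_X_right, if_neg h, one_smul, map_add, map_pow]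
        obtain ⟨i, rfl⟩ := Fin.exists_succ_eq.mpr h
        simp [finSuccEquiv_X_succ, finSuccEquiv_X_zero, add_comm]
    simp only [this, one_pow, Finset.prod_const_one, mul_one]
  exact fun i ↦ pow_zero _

/-- `T` maps `f` into some polynomial in `X_0` such that the leading coefficient is invertible. -/
lemma T_leadingcoeff_isUnit (fne : f ≠ 0) :
    IsUnit (finSuccEquiv k n (T f f)).leadingCoeff := by
  obtain ⟨v, vin, vs⟩ := Finset.exists_max_image f.support
    (fun v ↦ (T f ((monomial v) (coeff v f))).degreeOf 0) (support_nonempty.mpr fne)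
  set h := fun w ↦ (MvPolynomial.monomial w) (coeff w f)
  simp only [← natDegree_finSuccEquiv] at vs
  replace vs : ∀ x ∈ f.support \ {v}, (finSuccEquiv k n ((T f) (h x))).degree <
      (finSuccEquiv k n ((T f) (h v))).degree := by
    intro x hx
    obtain ⟨h1, h2⟩ := Finset.mem_sdiff.mp hx
    apply degree_lt_degree <| lt_of_le_of_ne (vs x h1) ?_
    simpa only [natDegree_finSuccEquiv]
      using degreeOf_t_ne_of_ne f _ _ h1 vin <| ne_of_not_mem_cons h2
  have coeff : (finSuccEquiv k n ((T f) (h v + ∑ x ∈ f.support \ {v}, h x))).leadingCoeff =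
      (finSuccEquiv k n ((T f) (h v))).leadingCoeff := by
    simp only [map_add, map_sum]
    rw [add_comm]
    apply leadingCoeff_add_of_degree_lt <| (lt_of_le_of_lt <| degree_sum_le _ _) ?_
    have h2 : h v ≠ 0 := by simpa [h] using mem_support_iff.mp vin
    replace h2 : (finSuccEquiv k n ((T f) (h v))) ≠ 0 := fun eq ↦ h2 <|
      by simpa only [map_eq_zero_iff _ (AlgEquiv.injective _)] using eq
    exact (Finset.sup_lt_iff <| Ne.bot_lt (fun x ↦ h2 <| degree_eq_bot.mp x)).mpr vs
  nth_rw 2 [← f.support_sum_monomial_coeff]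
  rw [Finset.sum_eq_add_sum_sdiff_singleton_of_mem vin h]
  rw [leadingCoeff_finSuccEquiv_t] at coeff
  simpa only [coeff, algebraMap_eq] using (mem_support_iff.mp vin).isUnit.map MvPolynomial.C

/-- the polynomials with integer coefficients -/
def IsInt {m : ℕ} (q : MvPolynomial (Fin m) k) : Prop :=
  q ∈ Set.range (MvPolynomial.map (Int.castRingHom k) : MvPolynomial (Fin m) ℤ → MvPolynomial (Fin m) k)

theorem IsInt.aeval {m l : ℕ} {q : MvPolynomial (Fin m) k} (hq : IsInt q)
    {y : Fin m → MvPolynomial (Fin l) k} (hy : ∀ i, IsInt (y i)) :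
    IsInt (MvPolynomial.aeval y q) := by
  obtain ⟨p, rfl⟩ := hq
  choose z hz using hy
  refine ⟨MvPolynomial.aeval z p, ?_⟩
  induction p using MvPolynomial.induction_on with
  | C a => simp
  | add p q hp hq => rw [map_add, map_add, map_add, map_add, hp, hq]
  | mul_X p i hp => rw [map_mul, map_mul, map_mul, map_mul, hp]; simp [hz]

/-- The first step: eliminate one variable. -/
theorem step (I : Ideal (MvPolynomial (Fin (n + 1)) k)) (hI : I ≠ ⊥) :
    ∃ y : Fin n → MvPolynomial (Fin (n + 1)) k, (∀ i, IsInt (y i)) ∧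
      ((Ideal.Quotient.mkₐ k I).comp (MvPolynomial.aeval y)).IsIntegral := by
  obtain ⟨f, fi, fne⟩ := Submodule.exists_mem_ne_zero_of_ne_bot hI
  have hu := T_leadingcoeff_isUnit f fne
  let e : MvPolynomial (Fin (n + 1)) k ≃ₐ[k] (MvPolynomial (Fin n) k)[X] :=
    (T f).trans (finSuccEquiv k n)
  let y : Fin n → MvPolynomial (Fin (n + 1)) k := fun i =>
    e.symm (Polynomial.C (MvPolynomial.X i))
  have hy : ∀ i, y i = X i.succ - X 0 ^ (2 + f.totalDegree) ^ (i.succ : Fin (n + 1)).1 := by
    intro i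
    have h1 : (finSuccEquiv k n).symm (Polynomial.C (MvPolynomial.X i)) = X i.succ := by
      rw [AlgEquiv.symm_apply_eq, finSuccEquiv_X_succ]
    change (T f).symm ((finSuccEquiv k n).symm _) = _
    rw [h1]
    change T1 f (-1) (X i.succ) = _
    rw [MvPolynomial.aeval_X, if_neg (Fin.succ_ne_zero i), neg_one_smul, sub_eq_add_neg]
  refine ⟨y, fun i => ⟨X i.succ - X 0 ^ (2 + f.totalDegree) ^ (i.succ : Fin (n + 1)).1, ?_⟩, ?_⟩
  · rw [hy]; simp
  · -- the composite `k[X_1, …] → k[X_1, …][X] → S`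
    let ψ : (MvPolynomial (Fin n) k)[X] →ₐ[k] (MvPolynomial (Fin (n + 1)) k ⧸ I) :=
      (Ideal.Quotient.mkₐ k I).comp e.symm.toAlgHom
    have hψ : Function.Surjective ψ := (Ideal.Quotient.mkₐ_surjective k I).comp e.symm.surjective
    have hcomp : ((Ideal.Quotient.mkₐ k I).comp (MvPolynomial.aeval y)).toRingHom =
        ψ.toRingHom.comp Polynomial.C := by
      apply MvPolynomial.ringHom_ext
      · intro c
        have h1 : (Polynomial.C (MvPolynomial.C c) : (MvPolynomial (Fin n) k)[X]) =
          algebraMap k _ c := rfl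
        simp only [AlgHom.toRingHom_eq_coe, RingHom.coe_comp, RingHom.coe_coe, Function.comp_apply]
        rw [h1, AlgHom.commutes]
        exact ((Ideal.Quotient.mkₐ k I).comp (MvPolynomial.aeval y)).commutes c
      · intro i
        simp only [AlgHom.toRingHom_eq_coe, RingHom.coe_coe, AlgHom.comp_apply,
          MvPolynomial.aeval_X, RingHom.comp_apply]
        rfl
    let J : Ideal (MvPolynomial (Fin n) k)[X] := RingHom.ker ψ
    have hgm := monic_of_isUnit_leadingCoeff_inv_smul hu
    have hgJ : (hu.unit⁻¹ : (MvPolynomial (Fin n) k)ˣ) • (finSuccEquiv k n (T f f)) ∈ J := by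
      have h0 : e f ∈ J := by
        rw [RingHom.mem_ker]
        change Ideal.Quotient.mk I (e.symm (e f)) = 0
        rw [AlgEquiv.symm_apply_apply]
        exact Ideal.Quotient.eq_zero_iff_mem.mpr fi
      exact Submodule.smul_of_tower_mem _ hu.unit⁻¹.val h0
    have h1 := hgm.quotient_isIntegral hgJ
    have h2 : (ψ.toRingHom.comp Polynomial.C) = (Ideal.kerLiftAlg ψ).toRingHom.comp
        ((Ideal.Quotient.mkₐ (MvPolynomial (Fin n) k) J).comp
          (Algebra.ofId (MvPolynomial (Fin n) k) (MvPolynomial (Fin n) k)[X])).toRingHom :=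
      RingHom.ext fun b => rfl
    have h3 : RingHom.IsIntegral (R := (MvPolynomial (Fin n) k)[X] ⧸ RingHom.ker ψ)
        (A := MvPolynomial (Fin (n + 1)) k ⧸ I) (Ideal.kerLiftAlg ψ).toRingHom := by
      refine RingHom.isIntegral_of_surjective _ fun s => ?_
      obtain ⟨q, rfl⟩ := hψ s
      exact ⟨Ideal.Quotient.mk _ q, rfl⟩
    change ((Ideal.Quotient.mkₐ k I).comp (MvPolynomial.aeval y)).toRingHom.IsIntegral
    rw [hcomp, h2]
    exact RingHom.IsIntegral.trans _ _ h1 h3

/-- Noether normalization with integer coefficients. -/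
theorem exists_normalization (n : ℕ) (I : Ideal (MvPolynomial (Fin n) k)) (hI : I ≠ ⊤) :
    ∃ (s : ℕ) (y : Fin s → MvPolynomial (Fin n) k), (∀ i, IsInt (y i)) ∧
      Function.Injective ((Ideal.Quotient.mkₐ k I).comp (MvPolynomial.aeval y)) ∧
      ((Ideal.Quotient.mkₐ k I).comp (MvPolynomial.aeval y)).IsIntegral := by
  have hbot : ∀ (m : ℕ) (I : Ideal (MvPolynomial (Fin m) k)), I = ⊥ →
      ∃ (s : ℕ) (y : Fin s → MvPolynomial (Fin m) k), (∀ i, IsInt (y i)) ∧
      Function.Injective ((Ideal.Quotient.mkₐ k I).comp (MvPolynomial.aeval y)) ∧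
      ((Ideal.Quotient.mkₐ k I).comp (MvPolynomial.aeval y)).IsIntegral := by
    intro m I hI
    subst hI
    have h1 : (MvPolynomial.aeval (MvPolynomial.X : Fin m → MvPolynomial (Fin m) k) :
        MvPolynomial (Fin m) k →ₐ[k] MvPolynomial (Fin m) k) = AlgHom.id k _ :=
      MvPolynomial.aeval_X_left
    refine ⟨m, MvPolynomial.X, fun i => ⟨X i, by simp⟩, ?_, ?_⟩
    · rw [h1, AlgHom.comp_id]
      exact ((Ideal.Quotient.mk_bijective_iff_eq_bot (⊥ : Ideal (MvPolynomial (Fin m) k))).mpr rfl).1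
    · rw [h1, AlgHom.comp_id]
      exact RingHom.isIntegral_of_surjective _ (Ideal.Quotient.mkₐ_surjective k _)
  induction n with
  | zero =>
    apply hbot 0 I
    by_contra hne
    obtain ⟨f, hf, hf0⟩ := Submodule.exists_mem_ne_zero_of_ne_bot hne
    have h1 := MvPolynomial.eq_C_of_isEmpty f
    have h2 : MvPolynomial.coeff 0 f ≠ 0 := fun h => hf0 (by rw [h1, h, map_zero])
    exact hI (Ideal.eq_top_of_isUnit_mem I hf (by
      rw [h1]; exact (IsUnit.mk0 _ h2).map MvPolynomial.C))
  | succ d ih =>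
    by_cases hne : I = ⊥
    · exact hbot _ I hne
    · obtain ⟨y, hy, hyint⟩ := step I hne
      let θ := (Ideal.Quotient.mkₐ k I).comp (MvPolynomial.aeval y)
      haveI : Nontrivial (MvPolynomial (Fin (d + 1)) k ⧸ I) := Ideal.Quotient.nontrivial_iff.mpr hI
      obtain ⟨s, z, hz, hinj, hint⟩ := ih (RingHom.ker θ) (RingHom.ker_ne_top θ)
      refine ⟨s, fun i => MvPolynomial.aeval y (z i), fun i => (hz i).aeval hy, ?_⟩
      have hcomp : (Ideal.Quotient.mkₐ k I).comp
          (MvPolynomial.aeval fun i => MvPolynomial.aeval y (z i)) =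
          (Ideal.kerLiftAlg θ).comp ((Ideal.Quotient.mkₐ k (RingHom.ker θ)).comp
            (MvPolynomial.aeval z)) := by
        apply MvPolynomial.algHom_ext
        intro i
        simp only [AlgHom.comp_apply, MvPolynomial.aeval_X]
        rfl
      rw [hcomp]
      refine ⟨(Ideal.kerLiftAlg_injective θ).comp hinj, ?_⟩
      have h1 : (Ideal.kerLiftAlg θ).toRingHom.IsIntegral := by
        have h2 : (θ.toRingHom) = (Ideal.kerLiftAlg θ).toRingHom.comp
          (Ideal.Quotient.mkₐ k (RingHom.ker θ)).toRingHom := RingHom.ext fun a => rfl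
        have h3 : θ.toRingHom.IsIntegral := hyint
        rw [h2] at h3
        exact RingHom.IsIntegral.tower_top _ _ h3
      exact RingHom.IsIntegral.trans _ _ hint h1

end K82.NoetherZ
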