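import Mathlib.RingTheory.Ideal.AssociatedPrime.Localization
import Mathlib.RingTheory.Ideal.MinimalPrime.Localization
import Mathlib.RingTheory.Ideal.MinimalPrime.Noetherian
import Mathlib.RingTheory.Filtration
import Mathlib.RingTheory.Localization.AtPrime.Basic
import Mathlib.RingTheory.Localization.Submodule
import Mathlib.LinearAlgebra.Matrix.Charpoly.LinearMap
import Mathlib.RingTheory.LocalRing.Basic
import Mathlib.RingTheory.IntegralClosure.Algebra.Basic
import Mathlib.RingTheory.IntegralClosure.IntegrallyClosed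
import Mathlib.RingTheory.Ideal.GoingUp
import Mathlib.RingTheory.Localization.BaseChange
import Mathlib.RingTheory.Flat.FaithfullyFlat.Algebra
import Mathlib.RingTheory.KrullDimension.Basic

/-!
# One-dimensional rings integrally closed in their total ring of fractions

The maximal ideals of such rings are locally generated by a nonzerodivisor. Consequences for
algebras `D` over such a ring, e.g. for completions.
-/

namespace K82.OneDim

open IsLocalRing

/-- A Noetherian local ring whose maximal ideal is generated by a nonzerodivisor is a domain. -/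
theorem isDomain_of_principal {R : Type*} [CommRing R] [IsLocalRing R] [IsNoetherianRing R]
    (t : R) (ht : t ∈ nonZeroDivisors R) (hm : maximalIdeal R = Ideal.span {t}) : IsDomain R := by
  have key : ∀ a : R, a ≠ 0 → ∃ (i : ℕ) (u : R), IsUnit u ∧ a = t ^ i * u := by
    intro a ha
    have h1 : ∃ i : ℕ, a ∉ (maximalIdeal R) ^ i := by
      by_contra hcon
      push Not at hcon
      have h2 : a ∈ (⨅ i : ℕ, (maximalIdeal R) ^ i : Ideal R) := by
        rw [Ideal.mem_iInf]
        exact hcon
      rw [Ideal.iInf_pow_eq_bot_of_isLocalRing _ (Ideal.IsPrime.ne_top inferInstance)] at h2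
      exact ha h2
    classical
    let i := Nat.find h1
    have hi : a ∉ (maximalIdeal R) ^ i := Nat.find_spec h1
    have hi0 : i ≠ 0 := by
      intro h0
      rw [h0, pow_zero, Ideal.one_eq_top] at hi
      exact hi trivial
    obtain ⟨j, hj⟩ := Nat.exists_eq_succ_of_ne_zero hi0
    have hj' : a ∈ (maximalIdeal R) ^ j := by
      by_contra hcon
      have := Nat.find_min' h1 hcon
      change i ≤ j at this
      omega
    rw [hm, Ideal.span_singleton_pow, Ideal.mem_span_singleton] at hj'
    obtain ⟨u, hu⟩ := hj'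
    refine ⟨j, u, ?_, hu⟩
    by_contra hcon
    have hu' : u ∈ maximalIdeal R := (mem_maximalIdeal u).2 hcon
    apply hi
    rw [hj, pow_succ, hu]
    refine Ideal.mul_mem_mul (Ideal.pow_mem_pow ?_ j) hu'
    rw [hm]
    exact Ideal.mem_span_singleton_self t
  haveI : NoZeroDivisors R := by
    refine ⟨fun {a b} hab => ?_⟩
    by_contra hcon
    push Not at hcon
    obtain ⟨i, u, hu, rfl⟩ := key a hcon.1
    obtain ⟨j, v, hv, rfl⟩ := key b hcon.2
    have h3 : t ^ (i + j) * (u * v) = 0 := by
      rw [← hab, pow_add]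
      ring
    have h4 : u * v = 0 := by
      have h5 : t ^ (i + j) ∈ nonZeroDivisors R := pow_mem ht _
      exact (mul_left_mem_nonZeroDivisors_eq_zero_iff h5).1 h3
    have h6 := hu.mul hv
    rw [h4] at h6
    exact not_isUnit_zero h6
  exact NoZeroDivisors.to_isDomain R

/-- The basic data: `n` is locally generated by the (local) nonzerodivisor `a`. -/
def LocPrincipal {B : Type*} [CommRing B] (s : B) (n : Ideal B) : Prop :=
  ∃ a ∈ n, ∃ u ∉ n, (∃ y, s * u = a * y) ∧ ∀ b ∈ n, ∃ c, u * b = a * c

/-- If `x` maps a finitely generated submodule of a module containing a faithful element to itself,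
it is integral. -/
theorem isIntegral_of_smul_mem {R A M : Type*} [CommRing R] [CommRing A] [Algebra R A]
    [AddCommGroup M] [Module R M] [Module A M] [IsScalarTower R A M]
    (N : Submodule R M) (a : M) (ha₁ : a ∈ N) (ha₂ : ∀ x : A, x • a = 0 → x = 0)
    (hN' : N.FG) (x : A) (hx : ∀ n ∈ N, x • n ∈ N) : IsIntegral R x := by
  let A' : Subalgebra R A :=
    { carrier := { x | ∀ n ∈ N, x • n ∈ N }
      mul_mem' := fun {a b} ha hb n hn => smul_smul a b n ▸ ha _ (hb _ hn)
      one_mem' := fun n hn => (one_smul A n).symm ▸ hn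
      add_mem' := fun {a b} ha hb n hn => (add_smul a b n).symm ▸ N.add_mem (ha _ hn) (hb _ hn)
      zero_mem' := fun n _hn => (zero_smul A n).symm ▸ N.zero_mem
      algebraMap_mem' := fun r n hn => (algebraMap_smul A r n).symm ▸ N.smul_mem r hn }
  let f : A' →ₐ[R] Module.End R N :=
    AlgHom.ofLinearMap
      { toFun := fun x => (DistribSMul.toLinearMap R M x).restrict x.prop
        map_add' := by intro x y; ext; exact add_smul _ _ _
        map_smul' := by intro r s; ext; apply smul_assoc }
      (by ext; apply one_smul)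
      (by intro x y; ext; apply mul_smul)
  have : Function.Injective f := by
    change Function.Injective f.toLinearMap
    rw [← LinearMap.ker_eq_bot, eq_bot_iff]
    intro s hs
    have : s.1 • a = 0 := congr_arg Subtype.val (LinearMap.congr_fun hs ⟨a, ha₁⟩)
    exact Subtype.ext (ha₂ _ this)
  change IsIntegral R (A'.val ⟨x, hx⟩)
  rw [isIntegral_algHom_iff A'.val Subtype.val_injective, ← isIntegral_algHom_iff f this]
  have : Module.Finite R N := by rwa [Module.Finite.iff_fg]
  apply Algebra.IsIntegral.isIntegral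

/-- In a Noetherian ring integrally closed in a localization `Q` in which the nonzerodivisor `s`
is invertible, a maximal ideal minimal over `s` is locally principal. -/
theorem locPrincipal {B Q : Type*} [CommRing B] [IsNoetherianRing B] [CommRing Q] [Algebra B Q]
    (s : B) (hs : s ∈ nonZeroDivisors B)
    (hsQ : IsUnit (algebraMap B Q s)) (hinj : Function.Injective (algebraMap B Q))
    (hic : ∀ x : Q, IsIntegral B x → x ∈ Set.range (algebraMap B Q))
    (n : Ideal B) [hn : n.IsMaximal] (hmin : n ∈ (Ideal.span {s}).minimalPrimes) :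
    LocPrincipal s n := by
  have h1 : n ∈ associatedPrimes B (B ⧸ Ideal.span {s}) := by
    apply Module.associatedPrimes.minimalPrimes_annihilator_subset_associatedPrimes
    rwa [Ideal.annihilator_quotient]
  obtain ⟨-, z, hz⟩ := isAssociatedPrime_iff.1 h1
  obtain ⟨y, rfl⟩ := Ideal.Quotient.mk_surjective z
  have hmem : ∀ b : B, b ∈ n ↔ ∃ c, b * y = s * c := by
    intro b
    rw [hz, Submodule.mem_colon_singleton, Submodule.mem_bot, ← Ideal.Quotient.mk_eq_mk,
      ← Submodule.Quotient.mk_smul, Ideal.Quotient.mk_eq_mk, Ideal.Quotient.eq_zero_iff_mem,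
      Ideal.mem_span_singleton, smul_eq_mul]
    rfl
  have hsn : s ∈ n := hmin.1.2 (Ideal.mem_span_singleton_self s)
  obtain ⟨σ, hσ⟩ := hsQ
  by_cases hall : ∀ a ∈ n, ∀ c, a * y = s * c → c ∈ n
  · exfalso
    have hx : IsIntegral B (algebraMap B Q y * ↑σ⁻¹) := by
      refine isIntegral_of_smul_mem (Submodule.map (Algebra.linearMap B Q) n) (algebraMap B Q s)
        ⟨s, hsn, rfl⟩ (fun x hx => ?_) ?_ _ ?_
      · rw [smul_eq_mul, ← hσ] at hx
        exact (Units.mul_left_eq_zero σ).1 hx
      · exact Submodule.FG.map _ ((isNoetherianRing_iff_ideal_fg B).1 inferInstance n)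
      · rintro _ ⟨b, hb, rfl⟩
        obtain ⟨c, hc⟩ := (hmem b).1 hb
        refine ⟨c, hall b hb c hc, ?_⟩
        rw [Algebra.linearMap_apply, Algebra.linearMap_apply, smul_eq_mul]
        have h2 := congrArg (algebraMap B Q) hc
        rw [map_mul, map_mul, ← hσ] at h2
        calc algebraMap B Q c = ↑σ⁻¹ * (↑σ * algebraMap B Q c) := by
              rw [← mul_assoc, Units.inv_mul, one_mul]
          _ = ↑σ⁻¹ * (algebraMap B Q b * algebraMap B Q y) := by rw [h2]
          _ = _ := by ring
    obtain ⟨x, hx⟩ := hic _ hx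
    have h3 : y = s * x := by
      apply hinj
      rw [map_mul, hx, ← hσ]
      calc algebraMap B Q y = (↑σ * ↑σ⁻¹) * algebraMap B Q y := by rw [Units.mul_inv, one_mul]
        _ = _ := by ring
    have h4 : (1 : B) ∈ n := (hmem 1).2 ⟨x, by rw [one_mul, h3]⟩
    exact hn.ne_top ((Ideal.eq_top_iff_one n).2 h4)
  · push Not at hall
    obtain ⟨a, ha, u, hu, hun⟩ := hall
    refine ⟨a, ha, u, hun, ⟨y, hu.symm⟩, ?_⟩
    intro b hb
    obtain ⟨c, hc⟩ := (hmem b).1 hb
    refine ⟨c, ?_⟩
    have h5 : s * (u * b) = s * (a * c) := by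
      rw [← mul_assoc, ← hu, mul_left_comm s a c, ← hc]
      ring
    have h6 : s * (u * b - a * c) = 0 := by rw [mul_sub, h5, sub_self]
    exact sub_eq_zero.1 ((mul_left_mem_nonZeroDivisors_eq_zero_iff hs).1 h6)

/-- The local ring of an extension `D` at a maximal ideal generated by its contraction to `B` is a
domain if the contraction is locally principal. -/
theorem isDomain_localization {B D : Type*} [CommRing B] [CommRing D] [IsNoetherianRing D]
    [Algebra B D] (s : B) (hsD : algebraMap B D s ∈ nonZeroDivisors D) (N : Ideal D) [N.IsPrime]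
    (hN : N ≤ (N.comap (algebraMap B D)).map (algebraMap B D))
    (hloc : LocPrincipal s (N.comap (algebraMap B D))) : IsDomain (Localization.AtPrime N) := by
  obtain ⟨a, ha, u, hu, ⟨y, hy⟩, hc⟩ := hloc
  have h1 : ∀ d ∈ N, ∃ e, algebraMap B D u * d = algebraMap B D a * e := by
    intro d hd
    refine Submodule.span_induction
      (p := fun d _ => ∃ e, algebraMap B D u * d = algebraMap B D a * e) ?_ ?_ ?_ ?_ (hN hd)
    · rintro _ ⟨b, hb, rfl⟩
      obtain ⟨c, hc⟩ := hc b hb
      exact ⟨algebraMap B D c, by rw [← map_mul, hc, map_mul]⟩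
    · exact ⟨0, by rw [mul_zero, mul_zero]⟩
    · rintro x z _ _ ⟨e, he⟩ ⟨e', he'⟩
      exact ⟨e + e', by rw [mul_add, mul_add, he, he']⟩
    · rintro r x _ ⟨e, he⟩
      exact ⟨r * e, by rw [smul_eq_mul, mul_left_comm, he, mul_left_comm]⟩
  have h2 : ∀ d, algebraMap B D a * d = 0 → algebraMap B D u * d = 0 := by
    intro d hd
    have h3 : algebraMap B D s * (algebraMap B D u * d) = 0 := by
      rw [← mul_assoc, ← map_mul, hy, map_mul, mul_right_comm, hd, zero_mul]
    exact (mul_left_mem_nonZeroDivisors_eq_zero_iff hsD).1 h3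
  have hu' : algebraMap B D u ∈ N.primeCompl := hu
  have huu : IsUnit (algebraMap D (Localization.AtPrime N) (algebraMap B D u)) :=
    IsLocalization.map_units (Localization.AtPrime N) (⟨_, hu'⟩ : N.primeCompl)
  refine isDomain_of_principal (algebraMap D (Localization.AtPrime N) (algebraMap B D a)) ?_ ?_
  · rw [mem_nonZeroDivisors_iff_right]
    intro x hx
    obtain ⟨d, v, rfl⟩ := IsLocalization.exists_mk'_eq N.primeCompl x
    have h3 : algebraMap D (Localization.AtPrime N) (algebraMap B D a * d) = 0 := by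
      have h4 := congrArg (fun w => w * algebraMap D (Localization.AtPrime N) (v : D)) hx
      simp only [zero_mul] at h4
      rw [mul_right_comm, IsLocalization.mk'_spec] at h4
      rw [mul_comm, map_mul, h4]
    obtain ⟨w, hw⟩ := (IsLocalization.map_eq_zero_iff N.primeCompl (Localization.AtPrime N) _).1 h3
    have h5 : algebraMap B D a * (w * d) = 0 := by rw [← hw]; ring
    have h6 := h2 _ h5
    rw [IsLocalization.mk'_eq_zero_iff]
    refine ⟨⟨_, hu'⟩ * w, ?_⟩
    rw [← h6]
    simp only [Submonoid.coe_mul]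
    ring
  · apply le_antisymm
    · rw [← Localization.AtPrime.map_eq_maximalIdeal, Ideal.map_le_iff_le_comap]
      intro d hd
      obtain ⟨e, he⟩ := h1 d hd
      rw [Ideal.mem_comap, Ideal.mem_span_singleton]
      obtain ⟨υ, hυ⟩ := huu
      refine ⟨↑υ⁻¹ * algebraMap D _ e, ?_⟩
      have h7 := congrArg (algebraMap D (Localization.AtPrime N)) he
      rw [map_mul, map_mul, ← hυ] at h7
      calc algebraMap D (Localization.AtPrime N) d
          = ↑υ⁻¹ * (↑υ * algebraMap D (Localization.AtPrime N) d) := by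
            rw [← mul_assoc, Units.inv_mul, one_mul]
        _ = ↑υ⁻¹ * (algebraMap D _ (algebraMap B D a) * algebraMap D _ e) := by rw [h7]
        _ = _ := by ring
    · rw [Ideal.span_singleton_le_iff_mem, ← Localization.AtPrime.map_eq_maximalIdeal]
      exact Ideal.mem_map_of_mem _ ha

/-- If the local ring at `N` is a domain, then exactly one minimal prime is contained in `N`. -/
theorem existsUnique_minimalPrimes_le {D : Type*} [CommRing D] (N : Ideal D) [N.IsPrime]
    (h : IsDomain (Localization.AtPrime N)) : ∃! P, P ∈ minimalPrimes D ∧ P ≤ N := by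
  have hK : ∀ P : Ideal D, P.IsPrime → P ≤ N →
      RingHom.ker (algebraMap D (Localization.AtPrime N)) ≤ P := by
    intro P hP hPN x hx
    rw [RingHom.mem_ker] at hx
    obtain ⟨w, hw⟩ := (IsLocalization.map_eq_zero_iff N.primeCompl (Localization.AtPrime N) _).1 hx
    have h2 : (w : D) * x ∈ P := by rw [hw]; exact P.zero_mem
    exact (hP.mem_or_mem h2).resolve_left (fun h3 => w.2 (hPN h3))
  have hKN : RingHom.ker (algebraMap D (Localization.AtPrime N)) ≤ N := hK N inferInstance le_rfl
  have hKp : (RingHom.ker (algebraMap D (Localization.AtPrime N))).IsPrime :=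
    RingHom.ker_isPrime _
  refine ⟨RingHom.ker (algebraMap D (Localization.AtPrime N)), ⟨⟨⟨hKp, bot_le⟩, ?_⟩, hKN⟩, ?_⟩
  · intro P hP hPK
    exact hK P hP.1 (hPK.trans hKN)
  · rintro P ⟨hP, hPN⟩
    exact le_antisymm (hP.2 ⟨hKp, bot_le⟩ (hK P hP.1.1 hPN)) (hK P hP.1.1 hPN)

/-- If `D/P` is local, exactly one maximal ideal contains the prime `P`. -/
theorem existsUnique_isMaximal_ge {D : Type*} [CommRing D] (P : Ideal D)
    (h : IsLocalRing (D ⧸ P)) : ∃! N : Ideal D, N.IsMaximal ∧ P ≤ N := by
  have key : ∀ N : Ideal D, N.IsMaximal → P ≤ N →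
      N = (maximalIdeal (D ⧸ P)).comap (Ideal.Quotient.mk P) := by
    intro N hN hPN
    have h1 : (N.map (Ideal.Quotient.mk P)).comap (Ideal.Quotient.mk P) = N := by
      rw [Ideal.comap_map_of_surjective _ Ideal.Quotient.mk_surjective]
      rw [← RingHom.ker_eq_comap_bot, Ideal.mk_ker, sup_eq_left.2 hPN]
    have h2 : (N.map (Ideal.Quotient.mk P)).IsMaximal := by
      rcases Ideal.map_eq_top_or_isMaximal_of_surjective (Ideal.Quotient.mk P)
        Ideal.Quotient.mk_surjective hN with h3 | h3
      · exfalso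
        rw [h3, Ideal.comap_top] at h1
        exact hN.ne_top h1.symm
      · exact h3
    rw [← IsLocalRing.eq_maximalIdeal h2, h1]
  refine ⟨(maximalIdeal (D ⧸ P)).comap (Ideal.Quotient.mk P), ⟨?_, ?_⟩, ?_⟩
  · exact Ideal.comap_isMaximal_of_surjective _ Ideal.Quotient.mk_surjective
  · intro x hx
    rw [Ideal.mem_comap, Ideal.Quotient.eq_zero_iff_mem.2 hx]
    exact Ideal.zero_mem _
  · rintro N ⟨hN, hPN⟩
    exact key N hN hPN

theorem ncard_eq_of_relation {α β : Type*} (s : Set α) (t : Set β) (r : α → β → Prop)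
    (h1 : ∀ a ∈ s, ∃! b, b ∈ t ∧ r a b) (h2 : ∀ b ∈ t, ∃! a, a ∈ s ∧ r a b) :
    s.ncard = t.ncard := by
  refine Set.ncard_congr (fun a ha => (h1 a ha).choose) ?_ ?_ ?_
  · intro a ha
    exact (h1 a ha).choose_spec.1.1
  · intro a b ha hb hab
    have ha' := (h1 a ha).choose_spec.1
    have hb' := (h1 b hb).choose_spec.1
    rw [← hab] at hb'
    exact (h2 _ ha'.1).unique ⟨ha, ha'.2⟩ ⟨hb, hb'.2⟩
  · intro b hb
    obtain ⟨a, ⟨ha, hab⟩, -⟩ := h2 b hb
    refine ⟨a, ha, ?_⟩
    exact (h1 a ha).unique (h1 a ha).choose_spec.1 ⟨hb, hab⟩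

/-- Localization at nonzerodivisors does not change the number of minimal primes. -/
theorem ncard_minimalPrimes_of_isLocalization {R A : Type*} [CommRing R] [CommRing A]
    [Algebra R A] (S : Submonoid R) [IsLocalization S A] (hinj : Function.Injective (algebraMap R A)) :
    (minimalPrimes A).ncard = (minimalPrimes R).ncard := by
  have h1 := IsLocalization.minimalPrimes_comap S A ⊥
  have h2 : (⊥ : Ideal A).comap (algebraMap R A) = ⊥ := by
    rw [← RingHom.ker_eq_comap_bot]
    exact (RingHom.injective_iff_ker_eq_bot _).1 hinj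
  rw [h2] at h1
  change _ = ((⊥ : Ideal R).minimalPrimes).ncard
  have h4 : Function.Injective (Ideal.comap (algebraMap R A)) := by
    intro I J hIJ
    have h3 := congrArg (Ideal.map (algebraMap R A)) hIJ
    rwa [IsLocalization.map_comap S, IsLocalization.map_comap S] at h3
  rw [h1, Set.ncard_image_of_injective _ h4]

end K82.OneDim
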