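import Groth.Agent.CAlg.K82.OneDim
import Groth.Agent.S0427
import Mathlib.RingTheory.TensorProduct.Finite
import Mathlib.RingTheory.Henselian

/-!
# Branches of a one-dimensional local ring
-/

universe u

namespace K82.OneDim

open IsLocalRing TensorProduct

/-- In a reduced local Noetherian ring whose maximal ideal is not a minimal prime, the maximal
ideal contains a nonzerodivisor. -/
theorem exists_nonZeroDivisor {A : Type*} [CommRing A] [IsNoetherianRing A] [IsLocalRing A]
    [IsReduced A] (h : maximalIdeal A ∉ minimalPrimes A) :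
    ∃ s ∈ maximalIdeal A, s ∈ nonZeroDivisors A := by
  by_contra hcon
  push Not at hcon
  have h1 : ((maximalIdeal A : Ideal A) : Set A) ⊆ ⋃ i ∈ minimalPrimes A, ((id i : Ideal A) : Set A) := by
    intro s hs
    by_contra hs'
    apply hcon s hs
    rw [mem_nonZeroDivisors_iff_right]
    intro x hx
    have h2 : x ∈ nilradical A := by
      rw [nilradical, ← Ideal.sInf_minimalPrimes, Ideal.mem_sInf]
      intro P hP
      have hP' : P.IsPrime := hP.1.1
      have h3 : x * s ∈ P := by rw [hx]; exact P.zero_mem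
      refine (hP'.mem_or_mem h3).resolve_right (fun h4 => hs' ?_)
      simp only [Set.mem_iUnion]
      exact ⟨P, hP, h4⟩
    rwa [nilradical_eq_zero, Ideal.zero_eq_bot, Ideal.mem_bot] at h2
  rw [Ideal.subset_union_prime_finite (f := id) (minimalPrimes.finite_of_isNoetherianRing A) ⊤ ⊤
    (fun i hi _ _ => hi.1.1)] at h1
  obtain ⟨P, hP, hmP⟩ := h1
  have h5 : maximalIdeal A = P :=
    (maximalIdeal.isMaximal A).eq_of_le hP.1.1.ne_top hmP
  exact h (h5 ▸ hP)

theorem mem_nonZeroDivisors_of_injective {R R' : Type*} [CommRing R] [CommRing R'] (φ : R →+* R')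
    (hφ : Function.Injective φ) (s : R) (hs : IsUnit (φ s)) : s ∈ nonZeroDivisors R := by
  rw [mem_nonZeroDivisors_iff_right]
  intro x hx
  apply hφ
  rw [map_zero]
  have := congrArg φ hx
  rw [map_mul, map_zero] at this
  exact hs.mul_left_eq_zero.1 this

section Main

variable (A H B Q : Type u) [CommRing A] [CommRing H] [CommRing B] [CommRing Q]
  [Algebra A H] [Algebra A B] [Algebra A Q] [Algebra B Q] [IsScalarTower A B Q]

attribute [local instance] Algebra.TensorProduct.rightAlgebra

/-- The algebra `H ⊗ Q` is a localization of `H ⊗ B`. -/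
theorem isLocalization_tensor (S : Submonoid A) [IsLocalization S Q] [Module.Flat A H]
    (hinj : Function.Injective (algebraMap B Q)) :
    letI : Algebra (H ⊗[A] B) (H ⊗[A] Q) :=
      (Algebra.TensorProduct.map (AlgHom.id A H) (IsScalarTower.toAlgHom A B Q)).toRingHom.toAlgebra
    IsLocalization (Algebra.algebraMapSubmonoid (H ⊗[A] B) S) (H ⊗[A] Q) ∧
      Function.Injective (algebraMap (H ⊗[A] B) (H ⊗[A] Q)) := by
  letI : Algebra (H ⊗[A] B) (H ⊗[A] Q) :=
      (Algebra.TensorProduct.map (AlgHom.id A H) (IsScalarTower.toAlgHom A B Q)).toRingHom.toAlgebra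
  have happ : ∀ x, algebraMap (H ⊗[A] B) (H ⊗[A] Q) x =
    Algebra.TensorProduct.map (AlgHom.id A H) (IsScalarTower.toAlgHom A B Q) x := fun x => rfl
  have hinj' : Function.Injective (algebraMap (H ⊗[A] B) (H ⊗[A] Q)) := by
    have h1 := Module.Flat.lTensor_preserves_injective_linearMap (M := H)
      (IsScalarTower.toAlgHom A B Q).toLinearMap hinj
    intro x y hxy
    exact h1 hxy
  refine ⟨?_, hinj'⟩
  rw [isLocalization_iff]
  refine ⟨?_, ?_, ?_⟩
  · rintro ⟨_, s, hs, rfl⟩
    have h2 : algebraMap (H ⊗[A] B) (H ⊗[A] Q) (algebraMap A (H ⊗[A] B) s) =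
        algebraMap Q (H ⊗[A] Q) (algebraMap A Q s) := by
      rw [happ, AlgHom.commutes, ← IsScalarTower.algebraMap_apply]
    change IsUnit (algebraMap (H ⊗[A] B) (H ⊗[A] Q) (algebraMap A (H ⊗[A] B) s))
    rw [h2]
    exact (IsLocalization.map_units Q (⟨s, hs⟩ : S)).map _
  · intro z
    have key : ∃ s ∈ S, ∃ d : H ⊗[A] B, algebraMap A (H ⊗[A] Q) s * z =
        algebraMap (H ⊗[A] B) (H ⊗[A] Q) d := by
      induction z using TensorProduct.induction_on with
      | zero => exact ⟨1, S.one_mem, 0, by simp⟩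
      | tmul h q =>
        obtain ⟨a, s, rfl⟩ := IsLocalization.exists_mk'_eq S q
        refine ⟨s, s.2, h ⊗ₜ algebraMap A B a, ?_⟩
        rw [happ, Algebra.TensorProduct.map_tmul, ← Algebra.smul_def, ← TensorProduct.tmul_smul,
          Algebra.smul_def, IsLocalization.mk'_spec']
        simp [← IsScalarTower.algebraMap_apply]
      | add x y hx hy =>
        obtain ⟨s, hs, d, hd⟩ := hx
        obtain ⟨s', hs', d', hd'⟩ := hy
        refine ⟨s * s', S.mul_mem hs hs', algebraMap A _ s' * d + algebraMap A _ s * d', ?_⟩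
        rw [map_add, map_mul, map_mul (algebraMap (H ⊗[A] B) (H ⊗[A] Q)), ← hd,
          map_mul (algebraMap (H ⊗[A] B) (H ⊗[A] Q)), ← hd', happ (algebraMap A _ s'),
          happ (algebraMap A _ s), AlgHom.commutes, AlgHom.commutes]
        ring
    obtain ⟨s, hs, d, hd⟩ := key
    refine ⟨⟨d, ⟨_, s, hs, rfl⟩⟩, ?_⟩
    change z * algebraMap (H ⊗[A] B) (H ⊗[A] Q) (algebraMap A (H ⊗[A] B) s) = _
    rw [← hd, happ (algebraMap A _ s), AlgHom.commutes, mul_comm]
  · intro x y hxy
    exact ⟨1, by rw [hinj' hxy]⟩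

theorem ncard_minimalPrimes_tensor (S : Submonoid A) [IsLocalization S Q] [Module.Flat A H]
    (hinj : Function.Injective (algebraMap B Q)) (hinjA : Function.Injective (algebraMap A Q)) :
    (minimalPrimes (H ⊗[A] B)).ncard = (minimalPrimes H).ncard := by
  letI : Algebra (H ⊗[A] B) (H ⊗[A] Q) :=
      (Algebra.TensorProduct.map (AlgHom.id A H) (IsScalarTower.toAlgHom A B Q)).toRingHom.toAlgebra
  obtain ⟨h1, h2⟩ := isLocalization_tensor A H B Q S hinj
  haveI := h1
  have h3 : Function.Injective (algebraMap H (H ⊗[A] Q)) :=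
    Algebra.TensorProduct.includeLeft_injective (S := A) hinjA
  haveI : IsLocalization (Algebra.algebraMapSubmonoid H S) (H ⊗[A] Q) := inferInstance
  rw [← ncard_minimalPrimes_of_isLocalization (Algebra.algebraMapSubmonoid (H ⊗[A] B) S) h2,
    ncard_minimalPrimes_of_isLocalization (Algebra.algebraMapSubmonoid H S) h3]

/-- The number of maximal ideals of the normalization is the number of branches. -/
theorem ncard_isMaximal_eq [IsNoetherianRing A] [IsLocalRing A] [IsReduced A]
    (hdim : ∀ I : Ideal A, I.IsPrime → I ∈ minimalPrimes A ∨ I.IsMaximal)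
    (h0 : maximalIdeal A ∉ minimalPrimes A)
    [Module.Finite A B] [IsLocalization (nonZeroDivisors A) Q]
    (hinj : Function.Injective (algebraMap B Q))
    (hic : ∀ x : Q, IsIntegral A x → x ∈ Set.range (algebraMap B Q))
    [IsNoetherianRing H] [HenselianLocalRing H] [Module.Flat A H]
    [IsLocalHom (algebraMap A H)]
    (hres : ∀ h : H, ∃ a : A, h - algebraMap A H a ∈ maximalIdeal H)
    (hmax : maximalIdeal H = (maximalIdeal A).map (algebraMap A H)) :
    {P : Ideal B | P.IsMaximal}.ncard = (minimalPrimes H).ncard := by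
  have hinjA : Function.Injective (algebraMap A Q) := IsLocalization.injective Q le_rfl
  rw [← ncard_minimalPrimes_tensor A H B Q (nonZeroDivisors A) hinj hinjA]
  haveI : IsNoetherianRing (H ⊗[A] B) := IsNoetherianRing.of_finite H (H ⊗[A] B)
  haveI : IsNoetherianRing B := IsNoetherianRing.of_finite A B
  haveI : Module.FaithfullyFlat A H := Module.FaithfullyFlat.of_flat_of_isLocalHom
  have htower : ∀ a : A, algebraMap B (H ⊗[A] B) (algebraMap A B a) = algebraMap A (H ⊗[A] B) a := by
    intro a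
    rw [← IsScalarTower.algebraMap_apply]
  -- facts on `D = H ⊗ B`
  have hi : ∀ d : H ⊗[A] B, ∃ b : B, d - algebraMap B (H ⊗[A] B) b ∈
      (maximalIdeal H).map (algebraMap H (H ⊗[A] B)) := by
    intro d
    induction d using TensorProduct.induction_on with
    | zero => exact ⟨0, by simp⟩
    | tmul h b =>
      obtain ⟨a, ha⟩ := hres h
      refine ⟨a • b, ?_⟩
      have h1 : h ⊗ₜ[A] b - algebraMap B (H ⊗[A] B) (a • b) =
          algebraMap H (H ⊗[A] B) (h - algebraMap A H a) * ((1 : H) ⊗ₜ[A] b) := by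
        have h2 : algebraMap B (H ⊗[A] B) (a • b) = (1 : H) ⊗ₜ[A] (a • b) := rfl
        rw [h2, Algebra.TensorProduct.algebraMap_apply, Algebra.TensorProduct.tmul_mul_tmul,
          mul_one, Algebra.algebraMap_self_apply, one_mul, TensorProduct.sub_tmul,
          TensorProduct.tmul_smul, Algebra.algebraMap_eq_smul_one, TensorProduct.smul_tmul']
      rw [h1]
      exact Ideal.mul_mem_right _ _ (Ideal.mem_map_of_mem _ ha)
    | add x y hx hy =>
      obtain ⟨b, hb⟩ := hx
      obtain ⟨b', hb'⟩ := hy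
      refine ⟨b + b', ?_⟩
      have h1 : x + y - algebraMap B (H ⊗[A] B) (b + b') =
        (x - algebraMap B (H ⊗[A] B) b) + (y - algebraMap B (H ⊗[A] B) b') := by
        rw [map_add]; ring
      rw [h1]
      exact Ideal.add_mem _ hb hb'
  have hii : ∀ N : Ideal (H ⊗[A] B), N.IsMaximal →
      (maximalIdeal H).map (algebraMap H (H ⊗[A] B)) ≤ N := by
    intro N hN
    rw [Ideal.map_le_iff_le_comap]
    have h1 : (N.comap (algebraMap H (H ⊗[A] B))).IsMaximal :=
      Ideal.isMaximal_comap_of_isIntegral_of_isMaximal N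
    rw [IsLocalRing.eq_maximalIdeal h1]
  have hiii : ∀ n : Ideal B, n.IsMaximal → ∃ N : Ideal (H ⊗[A] B), N.IsMaximal ∧
      N.comap (algebraMap B (H ⊗[A] B)) = n := by
    intro n hn
    have h1 : n.map (algebraMap B (H ⊗[A] B)) ≠ ⊤ := by
      intro htop
      let g : H ⊗[A] B →ₐ[A] H ⊗[A] (B ⧸ n) :=
        Algebra.TensorProduct.map (AlgHom.id A H) (Ideal.Quotient.mkₐ A n)
      have h2 : n.map (algebraMap B (H ⊗[A] B)) ≤ RingHom.ker g.toRingHom := by
        rw [Ideal.map_le_iff_le_comap]
        intro b hb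
        rw [Ideal.mem_comap, RingHom.mem_ker]
        change Algebra.TensorProduct.map (AlgHom.id A H) (Ideal.Quotient.mkₐ A n)
          ((1 : H) ⊗ₜ[A] b) = 0
        rw [Algebra.TensorProduct.map_tmul]
        have h3 : Ideal.Quotient.mkₐ A n b = 0 := Ideal.Quotient.eq_zero_iff_mem.2 hb
        rw [h3, TensorProduct.tmul_zero]
      rw [htop] at h2
      have h3 : (1 : H ⊗[A] B) ∈ RingHom.ker g.toRingHom := h2 trivial
      rw [RingHom.mem_ker, map_one] at h3
      haveI : Nontrivial (B ⧸ n) := Ideal.Quotient.nontrivial_iff.2 hn.ne_top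
      haveI : Nontrivial (H ⊗[A] (B ⧸ n)) := inferInstance
      exact one_ne_zero h3
    obtain ⟨N, hN, hnN⟩ := Ideal.exists_le_maximal _ h1
    refine ⟨N, hN, ?_⟩
    have h2 : n ≤ N.comap (algebraMap B (H ⊗[A] B)) := Ideal.map_le_iff_le_comap.1 hnN
    have h3 : N.comap (algebraMap B (H ⊗[A] B)) ≠ ⊤ := Ideal.comap_ne_top _ hN.ne_top
    exact (hn.eq_of_le h3 h2).symm
  have hiv : ∀ N : Ideal (H ⊗[A] B), N.IsMaximal →
      (N.comap (algebraMap B (H ⊗[A] B))).IsMaximal := by
    intro N hN
    have h1 : Function.Surjective ((Ideal.Quotient.mk N).comp (algebraMap B (H ⊗[A] B))) := by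
      intro z
      obtain ⟨d, rfl⟩ := Ideal.Quotient.mk_surjective z
      obtain ⟨b, hb⟩ := hi d
      refine ⟨b, ?_⟩
      rw [RingHom.comp_apply, eq_comm, Ideal.Quotient.eq]
      exact hii N hN hb
    have h2 : (⊥ : Ideal (H ⊗[A] B ⧸ N)).IsMaximal := Ideal.bot_quotient_isMaximal_iff N |>.2 hN
    have h3 := Ideal.comap_isMaximal_of_surjective _ h1 (K := ⊥)
    rwa [← Ideal.comap_comap, ← RingHom.ker_eq_comap_bot, Ideal.mk_ker] at h3
  -- the nonzerodivisor
  obtain ⟨s, hsm, hs⟩ := exists_nonZeroDivisor h0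
  have hsQ : IsUnit (algebraMap B Q (algebraMap A B s)) := by
    rw [← IsScalarTower.algebraMap_apply]
    exact IsLocalization.map_units Q (⟨s, hs⟩ : nonZeroDivisors A)
  have hsB : algebraMap A B s ∈ nonZeroDivisors B :=
    mem_nonZeroDivisors_of_injective (algebraMap B Q) hinj _ hsQ
  have hsD : algebraMap B (H ⊗[A] B) (algebraMap A B s) ∈ nonZeroDivisors (H ⊗[A] B) := by
    letI : Algebra (H ⊗[A] B) (H ⊗[A] Q) :=
      (Algebra.TensorProduct.map (AlgHom.id A H) (IsScalarTower.toAlgHom A B Q)).toRingHom.toAlgebra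
    obtain ⟨h1, h2⟩ := isLocalization_tensor A H B Q (nonZeroDivisors A) hinj
    haveI := h1
    refine mem_nonZeroDivisors_of_injective (algebraMap (H ⊗[A] B) (H ⊗[A] Q)) h2 _ ?_
    rw [htower]
    exact IsLocalization.map_units (H ⊗[A] Q)
      (⟨_, s, hs, rfl⟩ : Algebra.algebraMapSubmonoid (H ⊗[A] B) (nonZeroDivisors A))
  have hloc : ∀ n : Ideal B, n.IsMaximal → LocPrincipal (algebraMap A B s) n := by
    intro n hn
    refine locPrincipal (Q := Q) _ hsB hsQ hinj ?_ n ?_
    · intro x hx
      haveI : Algebra.IsIntegral A B := Algebra.IsIntegral.of_finite A B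
      exact hic x (isIntegral_trans x hx)
    · have hnA : n.comap (algebraMap A B) = maximalIdeal A :=
        IsLocalRing.eq_maximalIdeal (Ideal.isMaximal_comap_of_isIntegral_of_isMaximal n)
      refine ⟨⟨hn.isPrime, ?_⟩, ?_⟩
      · rw [Ideal.span_singleton_le_iff_mem]
        have : s ∈ n.comap (algebraMap A B) := by rw [hnA]; exact hsm
        exact this
      · rintro p ⟨hp, hsp⟩ hpn
        rw [Ideal.span_singleton_le_iff_mem] at hsp
        have h1 : (p.comap (algebraMap A B)).IsMaximal := by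
          refine (hdim _ inferInstance).resolve_left (fun h2 => ?_)
          exact notMem_nonZeroDivisors_of_mem_mem_minimalPrimes (x := s) hsp h2 hs
        have h2 : p.IsMaximal := Ideal.isMaximal_of_isIntegral_of_isMaximal_comap p h1
        rw [h2.eq_of_le hn.ne_top hpn]
  have hdom : ∀ (N : Ideal (H ⊗[A] B)) (hN : N.IsMaximal), IsDomain (Localization.AtPrime N) := by
    intro N hN
    refine isDomain_localization (algebraMap A B s) hsD N ?_ (hloc _ (hiv N hN))
    intro d hd
    obtain ⟨b, hb⟩ := hi d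
    have h1 := hii N hN hb
    have h2 : algebraMap B (H ⊗[A] B) b ∈ N := by
      have := N.sub_mem hd h1
      rwa [sub_sub_cancel] at this
    have h3 : (maximalIdeal H).map (algebraMap H (H ⊗[A] B)) =
        ((maximalIdeal A).map (algebraMap A B)).map (algebraMap B (H ⊗[A] B)) := by
      rw [hmax, Ideal.map_map, Ideal.map_map, ← IsScalarTower.algebraMap_eq,
        ← IsScalarTower.algebraMap_eq]
    have h4 : (maximalIdeal A).map (algebraMap A B) ≤ N.comap (algebraMap B (H ⊗[A] B)) := by
      rw [← Ideal.map_le_iff_le_comap, ← h3]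
      exact hii N hN
    have h5 : d = algebraMap B (H ⊗[A] B) b + (d - algebraMap B (H ⊗[A] B) b) := by ring
    rw [h5]
    refine Ideal.add_mem _ (Ideal.mem_map_of_mem _ h2) ?_
    rw [h3] at hb
    exact Ideal.map_mono h4 hb
  -- count
  have hc1 : {P : Ideal B | P.IsMaximal}.ncard = {N : Ideal (H ⊗[A] B) | N.IsMaximal}.ncard := by
    refine ncard_eq_of_relation _ _ (fun n N => N.comap (algebraMap B (H ⊗[A] B)) = n) ?_ ?_
    · intro n hn
      obtain ⟨N, hN, hNn⟩ := hiii n hn
      refine ⟨N, ⟨hN, hNn⟩, ?_⟩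
      rintro N' ⟨hN', hN'n⟩
      refine hN'.eq_of_le hN.ne_top (fun d hd => ?_)
      obtain ⟨b, hb⟩ := hi d
      have h1 := hii N' hN' hb
      have h2 : b ∈ N'.comap (algebraMap B (H ⊗[A] B)) := by
        have := N'.sub_mem hd h1
        rwa [sub_sub_cancel] at this
      have h2' : b ∈ N.comap (algebraMap B (H ⊗[A] B)) := by rwa [hNn, ← hN'n]
      have h5 : d = algebraMap B (H ⊗[A] B) b + (d - algebraMap B (H ⊗[A] B) b) := by ring
      rw [h5]
      exact N.add_mem h2' (hii N hN hb)
    · intro N hN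
      exact ⟨_, ⟨hiv N hN, rfl⟩, fun n hn => hn.2.symm⟩
  rw [hc1]
  refine ncard_eq_of_relation _ _ (fun N P => P ≤ N) ?_ ?_
  · intro N hN
    have hN' : N.IsMaximal := hN
    exact existsUnique_minimalPrimes_le N (hdom N hN')
  · intro P hP
    haveI : P.IsPrime := hP.1.1
    exact existsUnique_isMaximal_ge P (Groth.Agent.S0427.isLocalRing_of_finite H (H ⊗[A] B ⧸ P))

end Main

end K82.OneDim
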