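import Mathlib.LinearAlgebra.Matrix.NonsingularInverse
import Mathlib.LinearAlgebra.Matrix.Determinant.Basic
import Mathlib.RingTheory.LocalRing.Basic
import Mathlib.Data.ZMod.Basic
import Mathlib.LinearAlgebra.Matrix.Notation
import Mathlib.Tactic

/-!
# Collinearity preserving maps of projective planes

`core`: a collinearity preserving map `P²(𝔽_p) → P²(A)` (`A` local) that fixes the standard frame
sends `(a : 0 : 1)` to `(a : 0 : 1)` for every natural number `a`, hence `p = 0` in `A`.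
-/

set_option autoImplicit false

namespace K82.ProjPlane

universe u

variable {A : Type u} [CommRing A]

/-- three vectors of `A³` on a line -/
def Col (x y z : Fin 3 → A) : Prop :=
  ∃ n : Fin 3 → A, (∃ i, IsUnit (n i)) ∧ dotProduct x n = 0 ∧ dotProduct y n = 0 ∧ dotProduct z n = 0

/-- three vectors of `A³` on a line, in coordinates -/
theorem Col.coords {x0 x1 x2 y0 y1 y2 : A} {z : Fin 3 → A} (h : Col ![x0, x1, x2] ![y0, y1, y2] z) :
    ∃ a b c : A, (IsUnit a ∨ IsUnit b ∨ IsUnit c) ∧ x0 * a + x1 * b + x2 * c = 0 ∧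
      y0 * a + y1 * b + y2 * c = 0 ∧ z 0 * a + z 1 * b + z 2 * c = 0 := by
  obtain ⟨n, ⟨i, hi⟩, h1, h2, h3⟩ := h
  refine ⟨n 0, n 1, n 2, ?_, ?_, ?_, ?_⟩
  · fin_cases i
    · exact Or.inl hi
    · exact Or.inr (Or.inl hi)
    · exact Or.inr (Or.inr hi)
  · simpa [dotProduct, Fin.sum_univ_three] using h1
  · simpa [dotProduct, Fin.sum_univ_three] using h2
  · simpa [dotProduct, Fin.sum_univ_three] using h3

omit [CommRing A] in
theorem eq_vec (z : Fin 3 → A) {a b c : A} (h0 : z 0 = a) (h1 : z 1 = b) (h2 : z 2 = c) :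
    z = ![a, b, c] := by
  funext i
  fin_cases i
  · exact h0
  · exact h1
  · exact h2

theorem core (p : ℕ) [Fact p.Prime] [Nontrivial A]
    (ρ : (Fin 3 → ZMod p) → (Fin 3 → A))
    (hpt : ∀ v : Fin 3 → ZMod p, v ≠ 0 → ∃ i, IsUnit (ρ v i))
    (hcol : ∀ u v w : Fin 3 → ZMod p, u ≠ 0 → v ≠ 0 → w ≠ 0 →
      Matrix.det (Matrix.of ![u, v, w]) = 0 → Col (ρ u) (ρ v) (ρ w))
    (h1 : ∃ c, IsUnit c ∧ ρ ![1, 0, 0] = ![c, 0, 0])
    (h2 : ∃ c, IsUnit c ∧ ρ ![0, 1, 0] = ![0, c, 0])
    (h3 : ∃ c, IsUnit c ∧ ρ ![0, 0, 1] = ![0, 0, c])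
    (hU : ρ ![1, 1, 1] = ![1, 1, 1]) : (p : A) = 0 := by
  obtain ⟨c1, hc1, h1⟩ := h1
  obtain ⟨c2, hc2, h2⟩ := h2
  obtain ⟨c3, hc3, h3⟩ := h3
  have ne : ∀ (a b c : ZMod p), (a ≠ 0 ∨ b ≠ 0 ∨ c ≠ 0) → (![a, b, c] : Fin 3 → ZMod p) ≠ 0 := by
    intro a b c h h0
    have e0 := congrFun h0 0
    have e1 := congrFun h0 1
    have e2 := congrFun h0 2
    simp at e0 e1 e2
    rcases h with h | h | h
    · exact h e0
    · exact h e1
    · exact h e2
  have uc : ∀ {c x : A}, IsUnit c → c * x = 0 → x = 0 := fun hc h => (hc.mul_right_eq_zero).mp h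
  have nu : ¬ IsUnit (0 : A) := not_isUnit_zero
  -- lines of the target plane
  have l12 : ∀ z, Col ![c1, 0, 0] ![0, c2, 0] z → z 2 = 0 := by
    intro z hz
    obtain ⟨a, b, c, hu, e1, e2, e3⟩ := hz.coords
    have ha : a = 0 := uc hc1 (by linear_combination e1)
    have hb : b = 0 := uc hc2 (by linear_combination e2)
    subst ha hb
    have hc : IsUnit c := by tauto
    exact uc hc (by linear_combination e3)
  have l13 : ∀ z, Col ![c1, 0, 0] ![0, 0, c3] z → z 1 = 0 := by
    intro z hz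
    obtain ⟨a, b, c, hu, e1, e2, e3⟩ := hz.coords
    have ha : a = 0 := uc hc1 (by linear_combination e1)
    have hb : c = 0 := uc hc3 (by linear_combination e2)
    subst ha hb
    have hc : IsUnit b := by tauto
    exact uc hc (by linear_combination e3)
  have l23 : ∀ z, Col ![0, c2, 0] ![0, 0, c3] z → z 0 = 0 := by
    intro z hz
    obtain ⟨a, b, c, hu, e1, e2, e3⟩ := hz.coords
    have ha : b = 0 := uc hc2 (by linear_combination e1)
    have hb : c = 0 := uc hc3 (by linear_combination e2)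
    subst ha hb
    have hc : IsUnit a := by tauto
    exact uc hc (by linear_combination e3)
  have l2U : ∀ z, Col ![0, c2, 0] ![1, 1, 1] z → z 0 = z 2 := by
    intro z hz
    obtain ⟨a, b, c, hu, e1, e2, e3⟩ := hz.coords
    have ha : b = 0 := uc hc2 (by linear_combination e1)
    subst ha
    have hc' : c = -a := by linear_combination e2
    subst hc'
    have hc : IsUnit a := by
      rw [IsUnit.neg_iff] at hu; tauto
    exact sub_eq_zero.mp (uc hc (by linear_combination e3))
  have l1U : ∀ z, Col ![c1, 0, 0] ![1, 1, 1] z → z 1 = z 2 := by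
    intro z hz
    obtain ⟨a, b, c, hu, e1, e2, e3⟩ := hz.coords
    have ha : a = 0 := uc hc1 (by linear_combination e1)
    subst ha
    have hc' : c = -b := by linear_combination e2
    subst hc'
    have hc : IsUnit b := by
      rw [IsUnit.neg_iff] at hu; tauto
    exact sub_eq_zero.mp (uc hc (by linear_combination e3))
  -- (1, 0, 1)
  obtain ⟨g, hg, hG⟩ : ∃ g, IsUnit g ∧ ρ ![1, 0, 1] = ![g, 0, g] := by
    have a1 := hcol ![1, 0, 0] ![0, 0, 1] ![1, 0, 1]
      (ne _ _ _ (by simp)) (ne _ _ _ (by simp)) (ne _ _ _ (by simp))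
      (by simp [Matrix.det_fin_three])
    have a2 := hcol ![0, 1, 0] ![1, 1, 1] ![1, 0, 1]
      (ne _ _ _ (by simp)) (ne _ _ _ (by simp)) (ne _ _ _ (by simp))
      (by simp [Matrix.det_fin_three])
    rw [h1, h3] at a1; rw [h2, hU] at a2
    have b1 := l13 _ a1
    have b2 := l2U _ a2
    obtain ⟨i, hi⟩ := hpt ![1, 0, 1] (ne _ _ _ (by simp))
    refine ⟨ρ ![1, 0, 1] 0, ?_, eq_vec _ rfl b1 b2.symm⟩
    fin_cases i
    · exact hi
    · exact absurd (b1 ▸ hi) nu
    · exact b2 ▸ hi
  -- (0, 1, 1)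
  obtain ⟨h, hh, hH⟩ : ∃ g, IsUnit g ∧ ρ ![0, 1, 1] = ![0, g, g] := by
    have a1 := hcol ![0, 1, 0] ![0, 0, 1] ![0, 1, 1]
      (ne _ _ _ (by simp)) (ne _ _ _ (by simp)) (ne _ _ _ (by simp))
      (by simp [Matrix.det_fin_three])
    have a2 := hcol ![1, 0, 0] ![1, 1, 1] ![0, 1, 1]
      (ne _ _ _ (by simp)) (ne _ _ _ (by simp)) (ne _ _ _ (by simp))
      (by simp [Matrix.det_fin_three])
    rw [h2, h3] at a1; rw [h1, hU] at a2
    have b1 := l23 _ a1
    have b2 := l1U _ a2
    obtain ⟨i, hi⟩ := hpt ![0, 1, 1] (ne _ _ _ (by simp))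
    refine ⟨ρ ![0, 1, 1] 1, ?_, eq_vec _ b1 rfl b2.symm⟩
    fin_cases i
    · exact absurd (b1 ▸ hi) nu
    · exact hi
    · exact b2 ▸ hi
  -- (1, -1, 0)
  obtain ⟨d, hd, hD⟩ : ∃ g, IsUnit g ∧ ρ ![1, -1, 0] = ![g, -g, 0] := by
    have a1 := hcol ![1, 0, 0] ![0, 1, 0] ![1, -1, 0]
      (ne _ _ _ (by simp)) (ne _ _ _ (by simp)) (ne _ _ _ (by simp))
      (by simp [Matrix.det_fin_three])
    have a2 := hcol ![1, 0, 1] ![0, 1, 1] ![1, -1, 0]
      (ne _ _ _ (by simp)) (ne _ _ _ (by simp)) (ne _ _ _ (by simp))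
      (by simp [Matrix.det_fin_three])
    rw [h1, h2] at a1; rw [hG, hH] at a2
    have b1 := l12 _ a1
    have b2 : ρ ![1, -1, 0] 1 = - ρ ![1, -1, 0] 0 := by
      obtain ⟨a, b, c, hu, e1, e2, e3⟩ := a2.coords
      have e1' : a + c = 0 := uc hg (by linear_combination e1)
      have e2' : b + c = 0 := uc hh (by linear_combination e2)
      have hb : b = a := by linear_combination e2' - e1'
      have hc : c = -a := by linear_combination e1'
      subst hb hc
      have hua : IsUnit b := by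
        rw [IsUnit.neg_iff] at hu; tauto
      have := uc (x := ρ ![1, -1, 0] 0 + ρ ![1, -1, 0] 1) hua
        (by linear_combination e3 + b * b1)
      linear_combination this
    obtain ⟨i, hi⟩ := hpt ![1, -1, 0] (ne _ _ _ (by simp))
    refine ⟨ρ ![1, -1, 0] 0, ?_, eq_vec _ rfl b2 b1⟩
    fin_cases i
    · exact hi
    · have : IsUnit (ρ ![1, -1, 0] 1) := hi
      rw [b2, IsUnit.neg_iff] at this; exact this
    · exact absurd (b1 ▸ hi) nu
  -- the points `(a, 0, 1)`
  have key : ∀ a : ℕ, ∃ t, IsUnit t ∧ ρ ![(a : ZMod p), 0, 1] = ![(a : A) * t, 0, t] := by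
    intro a
    induction a with
    | zero => exact ⟨c3, hc3, by rw [Nat.cast_zero, Nat.cast_zero, zero_mul]; exact h3⟩
    | succ a ih =>
      obtain ⟨t, ht, hP⟩ := ih
      -- the point `(a, 1, 1)`
      obtain ⟨s, hs, hQ⟩ : ∃ s, IsUnit s ∧ ρ ![(a : ZMod p), 1, 1] = ![(a : A) * s, s, s] := by
        have a1 := hcol ![(a : ZMod p), 0, 1] ![0, 1, 0] ![(a : ZMod p), 1, 1]
          (ne _ _ _ (by simp)) (ne _ _ _ (by simp)) (ne _ _ _ (by simp))
          (by simp [Matrix.det_fin_three])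
        have a2 := hcol ![0, 1, 1] ![1, 0, 0] ![(a : ZMod p), 1, 1]
          (ne _ _ _ (by simp)) (ne _ _ _ (by simp)) (ne _ _ _ (by simp))
          (by simp [Matrix.det_fin_three])
        rw [hP, h2] at a1; rw [hH, h1] at a2
        have b1 : ρ ![(a : ZMod p), 1, 1] 0 = (a : A) * ρ ![(a : ZMod p), 1, 1] 2 := by
          obtain ⟨x, y, z, hu, e1, e2, e3⟩ := a1.coords
          have hy : y = 0 := uc hc2 (by linear_combination e2)
          have e1' : (a : A) * x + z = 0 := uc ht (by linear_combination e1)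
          have hz : z = -(a * x) := by linear_combination e1'
          subst hy hz
          have hux : IsUnit x := by
            rcases hu with hu | hu | hu
            · exact hu
            · exact absurd hu nu
            · rw [IsUnit.neg_iff] at hu; exact isUnit_of_mul_isUnit_right hu
          exact sub_eq_zero.mp (uc hux (by linear_combination e3))
        have b2 : ρ ![(a : ZMod p), 1, 1] 1 = ρ ![(a : ZMod p), 1, 1] 2 := by
          obtain ⟨x, y, z, hu, e1, e2, e3⟩ := a2.coords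
          have hx : x = 0 := uc hc1 (by linear_combination e2)
          have e1' : y + z = 0 := uc hh (by linear_combination e1)
          have hz : z = -y := by linear_combination e1'
          subst hx hz
          have huy : IsUnit y := by
            rw [IsUnit.neg_iff] at hu; tauto
          exact sub_eq_zero.mp (uc huy (by linear_combination e3))
        obtain ⟨i, hi⟩ := hpt ![(a : ZMod p), 1, 1] (ne _ _ _ (by simp))
        refine ⟨ρ ![(a : ZMod p), 1, 1] 2, ?_, eq_vec _ b1 b2 rfl⟩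
        fin_cases i
        · have : IsUnit (ρ ![(a : ZMod p), 1, 1] 0) := hi
          rw [b1] at this; exact isUnit_of_mul_isUnit_right this
        · exact b2 ▸ hi
        · exact hi
      have a1 := hcol ![(a : ZMod p), 1, 1] ![1, -1, 0] ![((a + 1 : ℕ) : ZMod p), 0, 1]
          (ne _ _ _ (by simp)) (ne _ _ _ (by simp)) (ne _ _ _ (by simp))
          (by simp [Matrix.det_fin_three]; ring)
      have a2 := hcol ![1, 0, 0] ![0, 0, 1] ![((a + 1 : ℕ) : ZMod p), 0, 1]
          (ne _ _ _ (by simp)) (ne _ _ _ (by simp)) (ne _ _ _ (by simp))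
          (by simp [Matrix.det_fin_three])
      rw [hQ, hD] at a1; rw [h1, h3] at a2
      have b1 := l13 _ a2
      have b2 : ρ ![((a + 1 : ℕ) : ZMod p), 0, 1] 0 =
          ((a + 1 : ℕ) : A) * ρ ![((a + 1 : ℕ) : ZMod p), 0, 1] 2 := by
        obtain ⟨x, y, z, hu, e1, e2, e3⟩ := a1.coords
        have e1' : (a : A) * x + y + z = 0 := uc hs (by linear_combination e1)
        have e2' : x - y = 0 := uc hd (by linear_combination e2)
        have hy : y = x := by linear_combination -e2'
        have hz : z = -((a + 1) * x) := by linear_combination e1' + e2'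
        subst hy hz
        have hux : IsUnit y := by
          rcases hu with hu | hu | hu
          · exact hu
          · exact hu
          · rw [IsUnit.neg_iff] at hu; exact isUnit_of_mul_isUnit_right hu
        refine sub_eq_zero.mp (uc hux ?_)
        push_cast
        push_cast at e3 b1
        linear_combination e3 - y * b1
      obtain ⟨i, hi⟩ := hpt ![((a + 1 : ℕ) : ZMod p), 0, 1] (ne _ _ _ (by simp))
      refine ⟨ρ ![((a + 1 : ℕ) : ZMod p), 0, 1] 2, ?_, eq_vec _ b2 b1 rfl⟩
      fin_cases i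
      · have : IsUnit (ρ ![((a + 1 : ℕ) : ZMod p), 0, 1] 0) := hi
        rw [b2] at this; exact isUnit_of_mul_isUnit_right this
      · exact absurd (b1 ▸ hi) nu
      · exact hi
  obtain ⟨t, ht, hP⟩ := key p
  rw [CharP.cast_eq_zero, h3] at hP
  have e := congrFun hP 0
  simp only [Matrix.cons_val_zero] at e
  exact uc ht (by linear_combination -e)

end K82.ProjPlane
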