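import Groth.Prelude.Def_W4bk4bump814p2PDiff
import Mathlib.RingTheory.Kaehler.Basic
import Mathlib.RingTheory.Kaehler.Polynomial
import Mathlib.RingTheory.WittVector.Teichmuller
import Mathlib.FieldTheory.Perfect
import Mathlib.Algebra.CharP.Defs

/-!
# The filtration `Σ^i` of Kähler differentials in characteristic `p`

The defect of additivity of `δ_n` is given by a universal formula coming from Witt vector addition:
`∑_{j ≤ n} δ_{n-j}(S_j) = δ_n(X) + δ_n(Y)` where `S_j` are the components of `[X] + [Y]`.
-/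

set_option autoImplicit false

namespace K82.SigmaDiff

open W4bk4bump814p2 MvPolynomial

universe u v

/-- The universal formula over `ℤ[X, Y]`. -/
theorem exists_universal (p : ℕ) [hp : Fact p.Prime] (n : ℕ) :
    ∃ S : ℕ → MvPolynomial (Fin 2) ℤ, S 0 = X 0 + X 1 ∧
      ∑ j ∈ Finset.range (n + 1), (S j) ^ (p ^ (n - j) - 1) •
        KaehlerDifferential.D ℤ (MvPolynomial (Fin 2) ℤ) (S j) =
      (X 0 : MvPolynomial (Fin 2) ℤ) ^ (p ^ n - 1) •
        KaehlerDifferential.D ℤ (MvPolynomial (Fin 2) ℤ) (X 0) +
      (X 1 : MvPolynomial (Fin 2) ℤ) ^ (p ^ n - 1) •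
        KaehlerDifferential.D ℤ (MvPolynomial (Fin 2) ℤ) (X 1) := by
  let x : WittVector p (MvPolynomial (Fin 2) ℤ) :=
    WittVector.teichmuller p (X 0) + WittVector.teichmuller p (X 1)
  refine ⟨x.coeff, ?_, ?_⟩
  · simp [x, WittVector.add_coeff_zero]
  · have h1 : WittVector.ghostComponent n x = X 0 ^ p ^ n + X 1 ^ p ^ n := by
      simp [x, map_add, WittVector.ghostComponent_teichmuller]
    rw [WittVector.ghostComponent_apply, aeval_wittPolynomial] at h1
    have h2 := congrArg (KaehlerDifferential.D ℤ (MvPolynomial (Fin 2) ℤ)) h1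
    rw [map_sum, map_add] at h2
    simp only [Derivation.leibniz, Derivation.leibniz_pow, ← Nat.cast_pow, Derivation.map_natCast,
      smul_zero, add_zero] at h2
    have hinj : Function.Injective (fun m : Ω[MvPolynomial (Fin 2) ℤ⁄ℤ] => (p ^ n) • m) := by
      haveI : Module.Free (MvPolynomial (Fin 2) ℤ) (Ω[MvPolynomial (Fin 2) ℤ⁄ℤ]) :=
        Module.Free.of_basis (KaehlerDifferential.mvPolynomialBasis ℤ (Fin 2))
      intro a b hab
      have hne : ((p ^ n : ℕ) : MvPolynomial (Fin 2) ℤ) ≠ 0 := by
        exact_mod_cast (pow_ne_zero _ hp.out.ne_zero)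
      have hab' : ((p ^ n : ℕ) : MvPolynomial (Fin 2) ℤ) • a =
          ((p ^ n : ℕ) : MvPolynomial (Fin 2) ℤ) • b := by
        rw [Nat.cast_smul_eq_nsmul, Nat.cast_smul_eq_nsmul]; exact hab
      exact smul_right_injective _ hne hab'
    apply hinj
    dsimp only
    rw [smul_add, ← h2, Finset.smul_sum]
    refine Finset.sum_congr rfl fun j hj => ?_
    rw [Finset.mem_range, Nat.lt_succ_iff] at hj
    rw [← Nat.cast_smul_eq_nsmul (MvPolynomial (Fin 2) ℤ) (p ^ (n - j)), ← smul_assoc,
      ← smul_assoc, ← Nat.cast_smul_eq_nsmul (MvPolynomial (Fin 2) ℤ) (p ^ n), ← smul_assoc]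
    congr 1
    rw [smul_eq_mul, smul_eq_mul, smul_eq_mul, ← Nat.cast_mul, ← pow_add,
      Nat.add_sub_cancel' hj]

variable (K : Type u) (A : Type v) [CommRing K] [CommRing A] [Algebra K A] (p : ℕ)

/-- The defect of additivity of `δ_n`. -/
theorem exists_sum_delta [hp : Fact p.Prime] (n : ℕ) (x y : A) :
    ∃ S : ℕ → A, delta K A p n x + delta K A p n y =
      delta K A p n (x + y) + ∑ j ∈ Finset.range n, delta K A p (n - (j + 1)) (S (j + 1)) := by
  obtain ⟨S, hS0, hS⟩ := exists_universal p n
  letI : Algebra (MvPolynomial (Fin 2) ℤ) A := (aeval (R := ℤ) ![x, y]).toAlgebra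
  have halg : ∀ q : MvPolynomial (Fin 2) ℤ, algebraMap (MvPolynomial (Fin 2) ℤ) A q =
    aeval (R := ℤ) ![x, y] q := fun q => rfl
  refine ⟨fun j => algebraMap (MvPolynomial (Fin 2) ℤ) A (S j), ?_⟩
  have h := congrArg (KaehlerDifferential.map ℤ K (MvPolynomial (Fin 2) ℤ) A) hS
  rw [map_sum, map_add] at h
  simp only [map_smul, KaehlerDifferential.map_D] at h
  have hsm : ∀ (q : MvPolynomial (Fin 2) ℤ) (m : Ω[A⁄K]), q • m =
    algebraMap (MvPolynomial (Fin 2) ℤ) A q • m := fun q m => algebra_compatible_smul A q m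
  simp only [hsm, map_pow] at h
  have hx : algebraMap (MvPolynomial (Fin 2) ℤ) A (X 0) = x := by simp [halg]
  have hy : algebraMap (MvPolynomial (Fin 2) ℤ) A (X 1) = y := by simp [halg]
  rw [hx, hy, Finset.sum_range_succ', hS0, map_add, hx, hy] at h
  unfold delta
  rw [← h, Nat.sub_zero, add_comm]

theorem delta_zero (i : ℕ) : delta K A p i 0 = 0 := by
  simp [delta]

variable [hp : Fact p.Prime] [CharP K p]

include K in
omit hp in
theorem natCast_eq_zero : (p : A) = 0 := by
  rw [← map_natCast (algebraMap K A), CharP.cast_eq_zero, map_zero]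

include K in
theorem neg_one_pow_eq (i : ℕ) : (-1 : A) ^ (p ^ i - 1) = 1 := by
  rcases hp.out.eq_two_or_odd' with h2 | hodd
  · subst h2
    have h0 := natCast_eq_zero K A 2
    have : (-1 : A) = 1 := by
      rw [neg_eq_iff_add_eq_zero, one_add_one_eq_two]
      exact_mod_cast h0
    rw [this, one_pow]
  · have : Even (p ^ i - 1) := Nat.Odd.sub_odd (hodd.pow) odd_one
    exact this.neg_one_pow

theorem delta_neg (i : ℕ) (x : A) : delta K A p i (-x) = - delta K A p i x := by
  unfold delta
  rw [neg_pow x, neg_one_pow_eq K A p i, one_mul, map_neg, smul_neg]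

/-- The subgroup generated by the `δ_j(x)`, `j < i`. -/
noncomputable def G (i : ℕ) : AddSubgroup (Ω[A⁄K]) :=
  AddSubgroup.closure (⋃ j ∈ Finset.range i, Set.range (delta K A p j))

omit hp [CharP K p] in
theorem delta_mem_G {i j : ℕ} (h : j < i) (x : A) : delta K A p j x ∈ G K A p i := by
  apply AddSubgroup.subset_closure
  simp only [Set.mem_iUnion]
  exact ⟨j, Finset.mem_range.mpr h, x, rfl⟩

omit hp [CharP K p] in
theorem G_mono {i j : ℕ} (h : i ≤ j) : G K A p i ≤ G K A p j := by
  unfold G
  rw [AddSubgroup.closure_le]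
  intro ω hω
  simp only [Set.mem_iUnion] at hω
  obtain ⟨k, hk, x, rfl⟩ := hω
  exact delta_mem_G K A p ((Finset.mem_range.mp hk).trans_le h) x

omit [CharP K p] in
theorem defect_mem_G (i : ℕ) (x y : A) :
    delta K A p i (x + y) - delta K A p i x - delta K A p i y ∈ G K A p i := by
  obtain ⟨S, hS⟩ := exists_sum_delta K A p i x y
  have : delta K A p i (x + y) - delta K A p i x - delta K A p i y =
      - ∑ j ∈ Finset.range i, delta K A p (i - (j + 1)) (S (j + 1)) := by
    rw [sub_sub, hS]; abel
  rw [this]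
  refine neg_mem (sum_mem fun j hj => delta_mem_G K A p ?_ _)
  have := Finset.mem_range.mp hj
  omega

theorem sigma_eq (i : ℕ) : sigma K A p i = (G K A p i : Set (Ω[A⁄K])) := by
  induction i with
  | zero => simp [G]
  | succ i ih =>
    rw [sigma_succ, ih]
    ext ω
    constructor
    · rintro ⟨x, hx⟩
      have h1 : ω - delta K A p i x ∈ G K A p (i + 1) := G_mono K A p (Nat.le_succ i) hx
      have h2 := add_mem h1 (delta_mem_G K A p (Nat.lt_succ_self i) x)
      rwa [sub_add_cancel] at h2
    · intro hω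
      -- the set is a subgroup
      let H : AddSubgroup (Ω[A⁄K]) :=
        { carrier := {ω | ∃ x : A, ω - delta K A p i x ∈ (G K A p i : Set (Ω[A⁄K]))}
          zero_mem' := ⟨0, by rw [delta_zero, sub_zero]; exact zero_mem _⟩
          add_mem' := by
            rintro a b ⟨x, hx⟩ ⟨y, hy⟩
            refine ⟨x + y, ?_⟩
            have := sub_mem (add_mem hx hy) (defect_mem_G K A p i x y)
            have he : a + b - delta K A p i (x + y) = a - delta K A p i x + (b - delta K A p i y) -
              (delta K A p i (x + y) - delta K A p i x - delta K A p i y) := by abel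
            rw [he]
            exact this
          neg_mem' := by
            rintro a ⟨x, hx⟩
            refine ⟨-x, ?_⟩
            rw [delta_neg]
            have := neg_mem hx
            have he : -a - -delta K A p i x = -(a - delta K A p i x) := by abel
            rw [he]
            exact this }
      have hle : G K A p (i + 1) ≤ H := by
        unfold G
        rw [AddSubgroup.closure_le]
        intro ω hω
        simp only [Set.mem_iUnion] at hω
        obtain ⟨k, hk, x, rfl⟩ := hω
        rw [Finset.mem_range, Nat.lt_succ_iff] at hk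
        rcases Nat.lt_or_eq_of_le hk with hk | hk
        · exact ⟨0, by rw [delta_zero, sub_zero]; exact delta_mem_G K A p hk x⟩
        · subst hk
          exact ⟨x, by rw [sub_self]; exact zero_mem _⟩
      exact hle hω

theorem pow_smul_mem {i : ℕ} (x : A) {ω : Ω[A⁄K]} (hω : ω ∈ G K A p i) :
    x ^ (p ^ i) • ω ∈ G K A p i := by
  unfold G at hω
  induction hω using AddSubgroup.closure_induction with
  | mem ω h =>
    simp only [Set.mem_iUnion] at h
    obtain ⟨j, hj, z, rfl⟩ := h
    rw [Finset.mem_range] at hj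
    have hA := natCast_eq_zero K A p
    have hkey : x ^ (p ^ i) • delta K A p j z = delta K A p j (x ^ (p ^ (i - j)) * z) := by
      unfold delta
      rw [Derivation.leibniz, Derivation.leibniz_pow]
      have h0 : p ^ (i - j) • x ^ (p ^ (i - j) - 1) • KaehlerDifferential.D K A x = 0 := by
        rw [← Nat.cast_smul_eq_nsmul A, Nat.cast_pow, hA, zero_pow (by omega), zero_smul]
      rw [h0, smul_zero, add_zero, mul_pow, ← smul_assoc, ← smul_assoc]
      congr 1
      rw [smul_eq_mul, smul_eq_mul]
      have : x ^ p ^ i = (x ^ p ^ (i - j)) ^ (p ^ j - 1) * x ^ p ^ (i - j) := by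
        rw [← pow_succ, Nat.sub_add_cancel (Nat.one_le_pow _ _ hp.out.pos), ← pow_mul, ← pow_add,
          Nat.sub_add_cancel hj.le]
      rw [this]; ring
    rw [hkey]
    exact delta_mem_G K A p hj _
  | zero => rw [smul_zero]; exact zero_mem _
  | add a b _ _ ha hb => rw [smul_add]; exact add_mem ha hb
  | neg a _ ha => rw [smul_neg]; exact neg_mem ha

end K82.SigmaDiff
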