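import Groth.Agent.LoccohA.Chevalley
import Groth.Agent.FormalB.AdicNoeth
import Mathlib.RingTheory.AdicCompletion.LocalRing
import Mathlib.RingTheory.AdicCompletion.AsTensorProduct
import Mathlib.RingTheory.Flat.FaithfullyFlat.Algebra
import Mathlib.RingTheory.Flat.Stability
import Mathlib.RingTheory.Filtration
import Mathlib.RingTheory.EssentialFiniteness
import Mathlib.RingTheory.Localization.Submodule
import Mathlib.RingTheory.Ideal.MinimalPrime.Localization

/-!
# Zariski's subspace theorem

`A → A'` an injective local homomorphism of Noetherian local rings, essentially of finite type, with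
`Â` a domain: the `m`-adic topology of `A` is induced by the `m'`-adic topology of `A'`.
-/

set_option autoImplicit false

namespace K82.Subspace

open IsLocalRing TensorProduct

universe u

variable (A A' : Type u) [CommRing A] [CommRing A'] [IsNoetherianRing A] [IsLocalRing A]
  [Algebra A A']

/-- a nonzero element `a` of `Â` is a nonzerodivisor on `A' ⊗ Â`, if `A'` is a domain containing `A` -/
theorem mul_eq_zero_of_domain [IsDomain A'] (hinj : Function.Injective (algebraMap A A'))
    [IsDomain (AdicCompletion (maximalIdeal A) A)] (a : AdicCompletion (maximalIdeal A) A)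
    (ha : a ≠ 0) (z : A' ⊗[A] AdicCompletion (maximalIdeal A) A)
    (hz : (1 ⊗ₜ[A] a) * z = 0) : z = 0 := by
  have hdom : IsDomain A := hinj.isDomain _
  let H := AdicCompletion (maximalIdeal A) A
  let K := FractionRing A
  let K' := FractionRing A'
  have hinj' : Function.Injective (algebraMap A K') := by
    rw [IsScalarTower.algebraMap_eq A A' K']
    exact (IsFractionRing.injective A' K').comp hinj
  have : FaithfulSMul A K' := (faithfulSMul_iff_algebraMap_injective A K').mpr hinj'
  let _ : Algebra K K' := FractionRing.liftAlgebra A K'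
  have : IsScalarTower A K K' := FractionRing.isScalarTower_liftAlgebra A K'
  have : Module.Flat A K := IsLocalization.flat K (nonZeroDivisors A)
  have : Module.Flat A K' := Module.Flat.trans A K K'
  let ι : A' ⊗[A] H →ₗ[A] K' ⊗[A] H :=
    LinearMap.rTensor H (IsScalarTower.toAlgHom A A' K').toLinearMap
  have hι : Function.Injective ι :=
    Module.Flat.rTensor_preserves_injective_linearMap _ (IsFractionRing.injective A' K')
  let μ : H →ₗ[A] H := LinearMap.mulLeft A a
  have hμ : Function.Injective μ := mul_right_injective₀ ha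
  have hμ' : Function.Injective (LinearMap.lTensor K' μ) :=
    Module.Flat.lTensor_preserves_injective_linearMap _ hμ
  have h1 : ∀ w : A' ⊗[A] H, (1 ⊗ₜ[A] a) * w = LinearMap.lTensor A' μ w := by
    intro w
    induction w with
    | zero => simp
    | add x y hx hy => rw [mul_add, hx, hy, map_add]
    | tmul x y => rw [Algebra.TensorProduct.tmul_mul_tmul, one_mul, LinearMap.lTensor_tmul]; rfl
  have h2 : ∀ w : A' ⊗[A] H, ι (LinearMap.lTensor A' μ w) = LinearMap.lTensor K' μ (ι w) := by
    intro w
    induction w with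
    | zero => simp
    | add x y hx hy => rw [map_add, map_add, hx, hy, map_add, map_add]
    | tmul x y => rfl
  rw [h1] at hz
  apply hι
  apply hμ'
  rw [← h2, hz, map_zero, map_zero]

/-- the subspace theorem, domain case -/
theorem domain_case [IsNoetherianRing A'] [IsLocalRing A'] [IsDomain A']
    (hinj : Function.Injective (algebraMap A A'))
    [Algebra.EssFiniteType A A'] [IsDomain (AdicCompletion (maximalIdeal A) A)] (j : ℕ) :
    ∃ n : ℕ, ((maximalIdeal A') ^ n).comap (algebraMap A A') ≤ (maximalIdeal A) ^ j := by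
  let H := AdicCompletion (maximalIdeal A) A
  have : IsNoetherianRing H := Groth.Agent.FormalB.AdicNoeth.isNoetherianRing_adicCompletion _
  let C := A' ⊗[A] H
  have : IsNoetherianRing (H ⊗[A] A') := Algebra.EssFiniteType.isNoetherianRing H _
  have hCn : IsNoetherianRing C :=
    isNoetherianRing_of_ringEquiv (H ⊗[A] A') (Algebra.TensorProduct.comm A H A').toRingEquiv
  have hff : Module.FaithfullyFlat A H := Module.FaithfullyFlat.of_flat_of_isLocalHom
  let J : ℕ → Ideal A := fun n => ((maximalIdeal A') ^ n).comap (algebraMap A A')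
  have hJ : Antitone J := fun a b hab => Ideal.comap_mono (Ideal.pow_le_pow_right hab)
  let JH : ℕ → Ideal H := fun n => (J n).map (algebraMap A H)
  have hJH : Antitone JH := fun a b hab => Ideal.map_mono (hJ hab)
  have hbot : ⨅ n, JH n = ⊥ := by
    rw [eq_bot_iff]
    intro a ha
    by_contra hne
    have hne' : a ≠ 0 := hne
    have hmem : ∀ n, (1 ⊗ₜ[A] a : C) ∈ ((maximalIdeal A').map (algebraMap A' C)) ^ n := by
      intro n
      have h1 : a ∈ JH n := (Submodule.mem_iInf _).mp ha n
      have h2 : (Algebra.TensorProduct.includeRight : H →ₐ[A] C) a ∈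
          (JH n).map (Algebra.TensorProduct.includeRight : H →ₐ[A] C) :=
        Ideal.mem_map_of_mem _ h1
      have h3 : (JH n).map (Algebra.TensorProduct.includeRight : H →ₐ[A] C) ≤
          ((maximalIdeal A').map (algebraMap A' C)) ^ n := by
        rw [← Ideal.map_pow]
        simp only [JH]
        rw [Ideal.map_le_iff_le_comap, Ideal.map_le_iff_le_comap]
        intro x hx
        rw [Ideal.mem_comap, Ideal.mem_comap]
        have h4 : (Algebra.TensorProduct.includeRight : H →ₐ[A] C) (algebraMap A H x) =
            algebraMap A' C (algebraMap A A' x) := by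
          rw [AlgHom.commutes]; rfl
        rw [h4]
        exact Ideal.mem_map_of_mem _ hx
      exact h3 h2
    have h1 : (1 ⊗ₜ[A] a : C) ∈ (⨅ i : ℕ, ((maximalIdeal A').map (algebraMap A' C)) ^ i • ⊤ :
        Submodule C C) := by
      rw [Submodule.mem_iInf]
      intro i
      rw [smul_eq_mul, Ideal.mul_top]
      exact hmem i
    obtain ⟨r, hr⟩ := (Ideal.mem_iInf_smul_pow_eq_bot_iff _ _).mp h1
    have h2 : (1 ⊗ₜ[A] a : C) * (1 - (r : C)) = 0 := by
      rw [mul_sub, mul_one, sub_eq_zero, mul_comm]
      exact hr.symm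
    have h3 := mul_eq_zero_of_domain A A' hinj a hne' _ h2
    have h4 : (1 : C) ∈ (maximalIdeal A').map (algebraMap A' C) := by
      rw [sub_eq_zero.mp h3]; exact r.2
    have h5 : (maximalIdeal A').map (algebraMap A' C) = ⊤ := (Ideal.eq_top_iff_one _).mpr h4
    have h6 := Ideal.comap_map_eq_self_of_faithfullyFlat (B := C) (maximalIdeal A')
    rw [h5, Ideal.comap_top] at h6
    exact Ideal.IsPrime.ne_top inferInstance h6.symm
  obtain ⟨n, hn⟩ := Groth.Agent.LoccohA.Chevalley.exists_le_pow_of_iInf_eq_bot JH hJH hbot j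
  refine ⟨n, ?_⟩
  have h1 : J n ≤ (maximalIdeal A ^ j) := by
    rw [← Ideal.comap_map_eq_self_of_faithfullyFlat (B := H) (maximalIdeal A ^ j)]
    refine Ideal.map_le_iff_le_comap.mp (hn.trans ?_)
    rw [AdicCompletion.maximalIdeal_eq_map, Ideal.map_pow]
  exact h1

/-- Zariski's subspace theorem -/
theorem main [IsNoetherianRing A'] [IsLocalRing A']
    (hinj : Function.Injective (algebraMap A A'))
    [Algebra.EssFiniteType A A'] [IsDomain (AdicCompletion (maximalIdeal A) A)] (j : ℕ) :
    ∃ n : ℕ, ((maximalIdeal A') ^ n).comap (algebraMap A A') ≤ (maximalIdeal A) ^ j := by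
  have hdom : IsDomain A := by
    have hff : Module.FaithfullyFlat A (AdicCompletion (maximalIdeal A) A) :=
      Module.FaithfullyFlat.of_flat_of_isLocalHom
    exact (FaithfulSMul.algebraMap_injective A (AdicCompletion (maximalIdeal A) A)).isDomain _
  obtain ⟨P, hP, hPA⟩ := Ideal.exists_comap_eq_of_mem_minimalPrimes_of_injective hinj ⊥
    (by rw [IsDomain.minimalPrimes_eq_singleton_bot]; rfl)
  have : Nontrivial (A' ⧸ P) := Ideal.Quotient.nontrivial_iff.mpr hP.ne_top
  have : IsLocalRing (A' ⧸ P) := IsLocalRing.of_surjective' _ Ideal.Quotient.mk_surjective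
  have hinj' : Function.Injective (algebraMap A (A' ⧸ P)) := by
    rw [injective_iff_map_eq_zero]
    intro x hx
    have h1 : algebraMap A A' x ∈ P := Ideal.Quotient.eq_zero_iff_mem.mp hx
    have h2 : x ∈ P.comap (algebraMap A A') := h1
    rw [hPA] at h2
    exact h2
  obtain ⟨n, hn⟩ := domain_case A (A' ⧸ P) hinj' j
  refine ⟨n, le_trans ?_ hn⟩
  have h1 : (maximalIdeal A').map (Ideal.Quotient.mk P) ≤ maximalIdeal (A' ⧸ P) := by
    apply IsLocalRing.le_maximalIdeal
    intro h
    have h2 := congrArg (Ideal.comap (Ideal.Quotient.mk P)) h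
    rw [Ideal.comap_map_of_surjective _ Ideal.Quotient.mk_surjective, ← RingHom.ker_eq_comap_bot,
      Ideal.mk_ker, Ideal.comap_top, sup_eq_left.mpr (IsLocalRing.le_maximalIdeal hP.ne_top)] at h2
    exact Ideal.IsPrime.ne_top inferInstance h2
  intro x hx
  rw [Ideal.mem_comap] at hx ⊢
  have h2 := Ideal.mem_map_of_mem (Ideal.Quotient.mk P) hx
  rw [Ideal.map_pow] at h2
  exact Ideal.pow_right_mono h1 n h2

end K82.Subspace
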