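import Groth.Agent.CycA.TorShift
import Groth.Agent.FlatA.TorOne

/-!
# `TorVan` and `Tor₁`

`Tor₁(Q, M) = 0` (Mathlib's `CategoryTheory.Tor`) if and only if `TorVan R Q M` (elementary form).
-/

set_option autoImplicit false

namespace K82.TorVanIff

open TensorProduct CategoryTheory

universe u

/-- `Tor₁(Q, M) = 0` iff `TorVan R Q M`. -/
theorem isZero_tor_one_iff (R : Type u) [CommRing R] (Q M : Type u) [AddCommGroup Q] [Module R Q]
    [AddCommGroup M] [Module R M] :
    Limits.IsZero (((CategoryTheory.Tor (ModuleCat.{u} R) 1).obj (ModuleCat.of R Q)).obj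
      (ModuleCat.of R M)) ↔ Groth.Agent.FlatA.TorOne.TorVan R Q M := by
  obtain ⟨K, P, _, _, _, _, f, g, hP, hf, hfg, hg⟩ :=
    Groth.Agent.CycA.TorShift.exists_free_cover (A := R) Q
  obtain ⟨e⟩ := Groth.Agent.CycA.TorShift.shiftL_one f g hf hfg hg M
  constructor
  · intro h
    have h1 : Subsingleton (((CategoryTheory.Tor (ModuleCat.{u} R) 1).obj (ModuleCat.of R Q)).obj
      (ModuleCat.of R M)) := ModuleCat.subsingleton_of_isZero h
    have h2 : Subsingleton (LinearMap.ker (LinearMap.rTensor M f)) := e.symm.toEquiv.subsingleton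
    refine Groth.Agent.FlatA.TorOne.TorVan.of_projective_presentation hfg hg ?_
    rw [← LinearMap.ker_eq_bot]
    exact (Submodule.subsingleton_iff_eq_bot).mp h2
  · intro h
    have h1 : Function.Injective (f.rTensor M) := h.rTensor_injective hfg hf hg
    have h2 : Subsingleton (LinearMap.ker (LinearMap.rTensor M f)) := by
      rw [LinearMap.ker_eq_bot.mpr h1]
      infer_instance
    have h3 := e.toEquiv.subsingleton
    exact ModuleCat.isZero_of_iff_subsingleton.mpr h3

end K82.TorVanIff
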